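import Cfsg.Agent.Lib.CoprimeSpecial.Special

/-!
# The class bound for a group of automorphisms
-/

set_option autoImplicit false

namespace Cfsg.Agent.CoprimeSpecial

open Subgroup SemidirectProduct
open scoped commutatorElement

universe u

theorem ser_map {Γ Δ : Type*} [Group Γ] [Group Δ] (f : Γ →* Δ) (der : Bool) (X : Subgroup Γ)
    (n : ℕ) : (ser der X n).map f = ser der (X.map f) n := by
  induction n with
  | zero => rfl
  | succ n ih =>
    rw [ser, ser, Subgroup.map_commutator, ih]
    cases der
    · rfl
    · simp only [cond_true, ih]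

/-- `class_bound` for automorphisms. -/
theorem class_bound_aut (der : Bool) {G : Type u} [Group G] [Finite G] {p k c n : ℕ} [hp : Fact p.Prime]
    (hG : (Nat.card G).Coprime p) {A : Subgroup (MulAut G)} (hA : IsElementaryAbelian p A)
    (hcard : Nat.card A = p ^ k) (hk : weight der n + 2 ≤ k)
    (h : ∀ a ∈ A, a ≠ 1 →
      (ser der ((a : MulAut G).toMonoidHom.eqLocus (MonoidHom.id G)) n).lowerCentralSeries c = ⊥) :
    (ser der (⊤ : Subgroup G) n).lowerCentralSeries (specialBound der p k c n) = ⊥ := by
  have : Finite A := Nat.finite_of_card_ne_zero (by rw [hcard]; exact pow_ne_zero k hp.out.ne_zero)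
  have := hA.1
  have := Coprime.finite_semidirectProduct (A.subtype)
  set A' := (inr : A →* G ⋊[A.subtype] A).range with hA'
  set G' := (inl : G →* G ⋊[A.subtype] A).range with hG'
  have hGn : G'.Normal := by rw [hG', range_inl_eq_ker_rightHom]; infer_instance
  have hel : IsElementaryAbelian p A' := by
    refine ⟨⟨⟨?_⟩⟩, ?_⟩
    · rintro ⟨_, a, rfl⟩ ⟨_, b, rfl⟩
      exact Subtype.ext (show inr a * inr b = inr b * inr a by rw [← map_mul, ← map_mul, mul_comm'])
    · rintro _ ⟨a, rfl⟩
      rw [← map_pow, show a ^ p = 1 from Subtype.ext (hA.2 a a.2), map_one]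
  have hmain := class_bound (A := A') (G := G') der (c := c) (n := n)
    (by rwa [Coprime.card_inl_range]) hel (by rwa [Coprime.card_inr_range]) hk ?_
  · rw [hG', MonoidHom.range_eq_map, ← ser_map, ← map_lowerCentralSeries] at hmain
    exact (map_eq_bot_iff_of_injective _ inl_injective).1 hmain
  rintro _ ⟨a, rfl⟩ ha1
  have hC : G' ⊓ centralizer {inr a} =
      ((a : MulAut G).toMonoidHom.eqLocus (MonoidHom.id G)).map inl := by
    ext x
    constructor
    · rintro ⟨⟨g, rfl⟩, hx⟩
      refine ⟨g, ?_, rfl⟩
      have h1 := mem_centralizer_singleton_iff.1 hx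
      show (a : MulAut G) g = g
      have h2 := congrArg SemidirectProduct.left h1
      simp at h2
      exact h2.symm
    · rintro ⟨g, hg, rfl⟩
      refine ⟨⟨g, rfl⟩, mem_centralizer_singleton_iff.2 ?_⟩
      have hg' : (a : MulAut G) g = g := hg
      ext <;> simp [hg']
  rw [hC, ← ser_map, ← map_lowerCentralSeries, h a a.2 ?_, Subgroup.map_bot]
  intro e
  exact ha1 (by rw [show a = 1 from Subtype.ext e, map_one])

end Cfsg.Agent.CoprimeSpecial
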