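import Cfsg.Agent.Lib.CoprimeSpecial.Ring
import Cfsg.Agent.Lib.Coprime.Action

/-!
# The class of a nilpotent group with a family of special subgroups
-/

set_option autoImplicit false

namespace Cfsg.Agent.CoprimeSpecial

open Subgroup LieGraded
open scoped commutatorElement

universe u

variable {Γ : Type u} [Group Γ] {N : Subgroup Γ} [N.Normal] {m : ℕ}

theorem act_gen (a : Γ) {k : ℕ} {x : N} (hx : x ∈ gam ↥N k) :
    act N m a (gen m k x hx) = gen m k (MulAut.conjNormal a x) (gam_map_mem _ hx) :=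
  ringMap_gen _ hx

theorem act_act (a b : Γ) (f : Ring ↥N m) : act N m a (act N m b f) = act N m (a * b) f := by
  induction f using ring_induction with
  | h0 => simp
  | hadd f g hf hg => simp [hf, hg]
  | hgen k x hx =>
    rw [act_gen, act_gen, act_gen]
    exact gen_congr rfl (by rw [map_mul]; rfl) _ _

theorem act_one (f : Ring ↥N m) : act N m (1 : Γ) f = f := by
  induction f using ring_induction with
  | h0 => simp
  | hadd f g hf hg => simp [hf, hg]
  | hgen k x hx =>
    rw [act_gen]
    exact gen_congr rfl (by simp) _ _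

theorem act_iterate (a : Γ) (n : ℕ) (f : Ring ↥N m) : (⇑(act N m a))^[n] f = act N m (a ^ n) f := by
  induction n with
  | zero => rw [Function.iterate_zero_apply, pow_zero, act_one]
  | succ n ih => rw [Function.iterate_succ_apply', ih, act_act, pow_succ']

theorem card_nsmul_ring [Finite N] (f : Ring ↥N m) : Nat.card N • f = 0 := by
  funext i
  rw [Pi.smul_apply, Pi.zero_apply]
  obtain ⟨x, hx, he⟩ := exists_cls (f i)
  rw [← he, cls, ← ofMul_pow, ← map_pow, ofMul_eq_zero]
  convert map_one (QuotientGroup.mk' ((gam ↥N ((i : ℕ) + 1)).subgroupOf (gam ↥N (i : ℕ))))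
  exact Subtype.ext (by rw [SubmonoidClass.coe_pow]; exact pow_card_eq_one')

theorem mem_of_nsmul_mem [Finite N] {p : ℕ} (hp : (Nat.card N).Coprime p) {M : Type*} [AddCommGroup M]
    (g : Ring ↥N m →+ M) {U : AddSubgroup M} {x : Ring ↥N m} (h : g (p • x) ∈ U) : g x ∈ U := by
  have hb : (Nat.card N : ℤ) * Nat.gcdA (Nat.card N) p + (p : ℤ) * Nat.gcdB (Nat.card N) p = 1 := by
    rw [← Nat.gcd_eq_gcd_ab, hp.gcd_eq_one, Nat.cast_one]
  have e : g x = Nat.gcdB (Nat.card N) p • g (p • x) := by
    conv_lhs => rw [← one_zsmul x, ← hb, add_zsmul, mul_comm (Nat.card N : ℤ), mul_zsmul,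
      natCast_zsmul, card_nsmul_ring, zsmul_zero, zero_add, mul_comm, mul_zsmul, natCast_zsmul, map_zsmul]
  rw [e]
  exact zsmul_mem h _

/-- Sums of products of `t` operators from `K` applied to elements. -/
def wordSpan (K : AddSubgroup (Ring ↥N m)) (t : ℕ) : AddSubgroup (Ring ↥N m) :=
  AddSubgroup.closure {z | ∃ l : List (AddMonoid.End (Ring ↥N m)),
    l.length = t ∧ (∀ e ∈ l, e ∈ K.map (ad ↥N m)) ∧ ∃ y, l.prod y = z}

theorem mem_wordSpan_zero (K : AddSubgroup (Ring ↥N m)) (x : Ring ↥N m) : x ∈ wordSpan K 0 :=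
  AddSubgroup.subset_closure ⟨[], rfl, by simp, x, rfl⟩

theorem wordSpan_step {K : AddSubgroup (Ring ↥N m)} {t : ℕ} {z g : Ring ↥N m} (hz : z ∈ wordSpan K t)
    (hg : g ∈ K) : bracket ↥N m z g ∈ wordSpan K (t + 1) := by
  induction hz using AddSubgroup.closure_induction with
  | zero => simp
  | add a b _ _ ha hb => rw [map_add, AddMonoidHom.add_apply]; exact add_mem ha hb
  | neg a _ ha => rw [map_neg, AddMonoidHom.neg_apply]; exact neg_mem ha
  | mem z hz =>
    obtain ⟨l, hl, hlK, y, rfl⟩ := hz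
    refine AddSubgroup.subset_closure ⟨ad ↥N m g :: l, by simp [hl], ?_, y, ?_⟩
    · exact List.forall_mem_cons.2 ⟨⟨g, hg, rfl⟩, hlK⟩
    · rw [List.prod_cons]; rfl

theorem wordSpan_eq_bot {K : AddSubgroup (Ring ↥N m)} {t : ℕ}
    (h : ∀ l : List (AddMonoid.End (Ring ↥N m)), l.length = t → (∀ e ∈ l, e ∈ K.map (ad ↥N m)) →
      l.prod = 0) : wordSpan K t = ⊥ := by
  refine le_bot_iff.1 ((AddSubgroup.closure_le _).2 ?_)
  rintro _ ⟨l, hl, hlK, y, rfl⟩
  rw [h l hl hlK]
  exact AddSubgroup.mem_bot.2 rfl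

section Delta

variable {L : Type u} [AddCommGroup L] {p : ℕ} [Fact p.Prime]

/-- `p` times a delta function is a sum of eigenfunctions and a constant. -/
theorem single_nsmul_mem' {φ : L →+ L} (hp : (⇑φ)^[p] = id) (x : L) :
    Pi.single (0 : ZMod p) (p • x) ∈ (⨆ a : ZMod p, shiftSpace φ a) ⊔ constants p L := by
  classical
  have hone : (1 : ZMod p).val = 1 := by
    have : Fact (1 < p) := ⟨(Fact.out : p.Prime).one_lt⟩
    exact ZMod.val_one p
  let f : ZMod p → ZMod p → L := fun a j => (⇑φ)^[(-j * a⁻¹).val] x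
  have hf : ∀ a, a ≠ 0 → f a ∈ shiftSpace φ a := by
    intro a ha j
    show φ ((⇑φ)^[(-j * a⁻¹).val] x) = (⇑φ)^[(-(j - a) * a⁻¹).val] x
    rw [show -(j - a) * a⁻¹ = 1 + -j * a⁻¹ by rw [neg_sub, sub_mul, mul_inv_cancel₀ ha]; ring,
      ← iterate_val_add hp, hone, Function.iterate_one]
  set y := ∑ i : ZMod p, (⇑φ)^[i.val] x with hy
  have hφy : φ y = y := by
    rw [hy, map_sum]
    refine (Finset.sum_congr rfl fun i _ => ?_).trans
      (Equiv.sum_comp (Equiv.addLeft (1 : ZMod p)) fun i => (⇑φ)^[i.val] x)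
    rw [Equiv.coe_addLeft, ← iterate_val_add hp, hone, Function.iterate_one]
  have h0 : Pi.single (0 : ZMod p) y ∈ shiftSpace φ 0 := by
    intro j
    rw [sub_zero]
    rcases eq_or_ne j 0 with rfl | hj
    · rw [Pi.single_eq_same, hφy]
    · rw [Pi.single_eq_of_ne hj, map_zero]
  have hkey : Pi.single (0 : ZMod p) (p • x) =
      (∑ a ∈ Finset.univ.erase (0 : ZMod p), f a) + Pi.single (0 : ZMod p) y +
        Pi.constAddMonoidHom (ZMod p) L (x - y) := by
    funext j
    rw [Pi.add_apply, Pi.add_apply, Finset.sum_apply]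
    show _ = _ + (x - y)
    by_cases hj : j = 0
    · subst hj
      have : ∀ a ∈ Finset.univ.erase (0 : ZMod p), f a 0 = x := fun a _ => by simp [f]
      have h1 : p • x = (p - 1) • x + x := by
        rw [← succ_nsmul, Nat.sub_add_cancel (Fact.out : p.Prime).pos]
      rw [Finset.sum_congr rfl this, Finset.sum_const, Finset.card_erase_of_mem (Finset.mem_univ _),
        Finset.card_univ, ZMod.card, Pi.single_eq_same, Pi.single_eq_same, h1]
      abel
    · have h1 : ∑ a ∈ Finset.univ.erase (0 : ZMod p), f a j =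
          ∑ i ∈ Finset.univ.erase (0 : ZMod p), (⇑φ)^[i.val] x := by
        refine Finset.sum_nbij' (fun a => -j * a⁻¹) (fun i => -j * i⁻¹) ?_ ?_ ?_ ?_ ?_
        · intro a ha; simp at ha ⊢; exact ⟨hj, ha⟩
        · intro a ha; simp at ha ⊢; exact ⟨hj, ha⟩
        · intro a ha
          simp only [mul_inv, inv_inv]
          rw [← mul_assoc, mul_inv_cancel₀ (neg_ne_zero.2 hj), one_mul]
        · intro a ha
          simp only [mul_inv, inv_inv]
          rw [← mul_assoc, mul_inv_cancel₀ (neg_ne_zero.2 hj), one_mul]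
        · intro a _; rfl
      have h2 := Finset.add_sum_erase _ (fun i : ZMod p => (⇑φ)^[i.val] x) (Finset.mem_univ (0 : ZMod p))
      simp only [ZMod.val_zero, Function.iterate_zero, id_eq] at h2
      rw [h1, Pi.single_eq_of_ne hj, Pi.single_eq_of_ne hj, hy, ← h2]
      abel
  rw [hkey]
  exact add_mem (add_mem (AddSubgroup.mem_sup_left (sum_mem fun a ha =>
    AddSubgroup.mem_iSup_of_mem a (hf a (Finset.ne_of_mem_erase ha))))
    (AddSubgroup.mem_sup_left (AddSubgroup.mem_iSup_of_mem 0 h0)))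
    (AddSubgroup.mem_sup_right ⟨x - y, rfl⟩)

/-- Convolution into the next derived term. -/
theorem conv_mem_derived (B : L →+ L →+ L) (D : ZMod p → AddSubgroup (ZMod p → L)) (n : ℕ)
    {f g : ZMod p → L} (hf : f ∈ (⨆ c, derSeries (conv B) D n c) ⊔ constants p L)
    (hg : g ∈ (⨆ c, derSeries (conv B) D n c) ⊔ constants p L) :
    conv B f g ∈ (⨆ c, derSeries (conv B) D (n + 1) c) ⊔ constants p L := by
  obtain ⟨f1, hf1, f2, hf2, rfl⟩ := AddSubgroup.mem_sup.1 hf
  obtain ⟨g1, hg1, g2, hg2, rfl⟩ := AddSubgroup.mem_sup.1 hg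
  rw [map_add (conv B) f1 f2, AddMonoidHom.add_apply, map_add (conv B f1) g1 g2]
  refine add_mem (add_mem (AddSubgroup.mem_sup_left ?_)
    (AddSubgroup.mem_sup_right (conv_constants_right B f1 hg2)))
    (AddSubgroup.mem_sup_right (conv_constants_left B hf2 _))
  refine AddSubgroup.iSup_induction _ (C := fun f1 =>
    conv B f1 g1 ∈ ⨆ c, derSeries (conv B) D (n + 1) c) hf1 (fun a x hx => ?_)
    (by simp) (fun x y hx hy => by rw [map_add, AddMonoidHom.add_apply]; exact add_mem hx hy)
  refine AddSubgroup.iSup_induction _ (C := fun g1 =>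
    conv B x g1 ∈ ⨆ c, derSeries (conv B) D (n + 1) c) hg1 (fun b y hy => ?_)
    (by simp) (fun y z hy hz => by rw [map_add]; exact add_mem hy hz)
  exact AddSubgroup.mem_iSup_of_mem (a + b) (mem_brFam hx hy)

end Delta

variable {A : Subgroup Γ} {c : ℕ}

/-- The fixed points of one element. -/
def fixK (N : Subgroup Γ) [N.Normal] (m : ℕ) (a : Γ) : AddSubgroup (Ring ↥N m) where
  carrier := {f | act N m a f = f}
  zero_mem' := map_zero _
  add_mem' := fun {f g} (hf : _ = _) (hg : _ = _) => show _ = _ by rw [map_add, hf, hg]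
  neg_mem' := fun {f} (hf : _ = _) => show _ = _ by rw [map_neg, hf]

theorem fixK_inv [IsMulCommutative A] {a : Γ} (ha : a ∈ A) : IsInv A (fixK N m a) := by
  intro b hb f hf
  show act N m a (act N m b f) = act N m b f
  have hab : a * b = b * a :=
    congrArg Subtype.val (mul_comm' (⟨a, ha⟩ : A) ⟨b, hb⟩)
  rw [act_act, hab, ← act_act, show act N m a f = f from hf]

theorem fixK_closed (a : Γ) : ∀ x ∈ fixK N m a, ∀ y ∈ fixK N m a,
    bracket ↥N m x y ∈ fixK N m a := fun x (hx : _ = _) y (hy : _ = _) => show _ = _ by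
  rw [act, ringMap_bracket, show ringMap (MulAut.conjNormal a) m x = x from hx,
    show ringMap (MulAut.conjNormal a) m y = y from hy]

theorem fixK_spanned [Finite Γ] [IsMulCommutative A] (hcop : (Nat.card A).Coprime (Nat.card N))
    (F : Family A N c) {p : ℕ} [Fact p.Prime]
    (hpN : (Nat.card N).Coprime p) {a : Γ} (ha : a ∈ A) (hap : a ^ p = 1) :
    IsSpanned F (fixK N m a) := by
  classical
  set Z := AddSubgroup.closure {f | f ∈ gens F m ∧ f ∈ fixK N m a}
  let Nrm : Ring ↥N m →+ Ring ↥N m := ∑ i ∈ Finset.range p, act N m (a ^ i)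
  have hN : ∀ g, Nrm g = ∑ i ∈ Finset.range p, act N m (a ^ i) g := fun g =>
    AddMonoidHom.finsetSum_apply _ _ _
  have hfix : ∀ g, Nrm g ∈ fixK N m a := by
    intro g
    show act N m a (Nrm g) = Nrm g
    rw [hN, map_sum]
    simp only [act_act, ← pow_succ']
    have h1 := Finset.sum_range_succ (fun i => act N m (a ^ i) g) p
    have h2 := Finset.sum_range_succ' (fun i => act N m (a ^ i) g) p
    rw [h1, pow_zero, hap] at h2
    exact (add_right_cancel h2).symm
  intro f hf
  refine mem_of_nsmul_mem hpN (AddMonoidHom.id _) (U := Z) (x := f) ?_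
  have e : p • f = Nrm f := by
    have hfi : ∀ i : ℕ, act N m (a ^ i) f = f := by
      intro i
      induction i with
      | zero => rw [pow_zero, act_one]
      | succ i ih => rw [pow_succ', ← act_act, ih, show act N m a f = f from hf]
    rw [hN, Finset.sum_congr rfl (fun i _ => hfi i), Finset.sum_const, Finset.card_range]
  show p • f ∈ Z
  rw [e]
  have hf' : f ∈ AddSubgroup.closure (gens F m) :=
    AddSubgroup.closure_mono (fun _ h => h.1) (top_spanned hcop F (show f ∈ ⊤ from trivial))
  clear hf e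
  induction hf' using AddSubgroup.closure_induction with
  | zero => simp
  | add x y _ _ hx hy => rw [map_add]; exact add_mem hx hy
  | neg x _ hx => rw [map_neg]; exact neg_mem hx
  | mem g hg =>
    obtain ⟨S, hS, k, x, hx, hxS, rfl⟩ := hg
    let P : AddSubgroup (Ring ↥N m) :=
      { carrier := {f | ∃ y, ∃ hy : y ∈ gam ↥N k, (y : Γ) ∈ S ∧ gen m k y hy = f}
        zero_mem' := ⟨1, one_mem _, S.one_mem, gen_zero (one_mem _)⟩
        add_mem' := fun ⟨y, hy, hyS, e⟩ ⟨z, hz, hzS, e'⟩ =>
          ⟨y * z, mul_mem hy hz, S.mul_mem hyS hzS, by rw [gen_mul hy hz, e, e']⟩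
        neg_mem' := fun ⟨y, hy, hyS, e⟩ => ⟨y⁻¹, inv_mem hy, S.inv_mem hyS, by rw [gen_inv hy, e]⟩ }
    have hP : Nrm (gen m k x hx) ∈ P := by
      rw [hN]
      refine sum_mem fun i _ => ?_
      rw [act_gen]
      refine ⟨_, _, ?_, rfl⟩
      rw [MulAut.conjNormal_apply]
      exact (mem_normalizer_iff.1 (F.inv S hS (pow_mem ha i)) _).1 hxS
    obtain ⟨y, hy, hyS, e⟩ := hP
    exact AddSubgroup.subset_closure ⟨⟨S, hS, k, y, hy, hyS, e⟩, hfix _⟩

/-- Fixed classes lift to fixed elements. -/
theorem fixK_le [Finite Γ] {p : ℕ} [hp : Fact p.Prime] (hpN : (Nat.card N).Coprime p) {a : Γ}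
    (hap : a ^ p = 1) :
    fixK N m a ≤ AddSubgroup.closure
      {f | ∃ k x, ∃ hx : x ∈ gam ↥N k, (x : Γ) ∈ centralizer {a} ∧ gen m k x hx = f} := by
  classical
  intro f hf
  rw [← Finset.univ_sum_single f]
  refine sum_mem fun i _ => ?_
  obtain ⟨x, hx, he⟩ := exists_cls (f i)
  have hmem : x⁻¹ * MulAut.conjNormal a x ∈ gam ↥N ((i : ℕ) + 1) := by
    have h1 : layerMap (MulAut.conjNormal a) i (f i) = f i :=
      congrFun (show act N m a f = f from hf) i
    rw [← he, layerMap_cls, eq_comm, cls_eq_iff] at h1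
    exact h1
  let ψ : zpowers a →* MulAut ↥N := MulAut.conjNormal.comp (zpowers a).subtype
  have hcard : (Nat.card (zpowers a)).Coprime (Nat.card (gam ↥N ((i : ℕ) + 1))) := by
    refine Nat.Coprime.coprime_dvd_right (card_subgroup_dvd_card _) ?_
    rw [Nat.card_zpowers]
    exact hpN.symm.coprime_dvd_left (orderOf_dvd_of_pow_eq_one hap)
  have hstab : ∀ b : zpowers a, ∀ z ∈ gam ↥N ((i : ℕ) + 1), ψ b z ∈ gam ↥N ((i : ℕ) + 1) :=
    fun b z hz => gam_map_mem _ hz
  have hall : ∀ b : zpowers a, x⁻¹ * ψ b x ∈ gam ↥N ((i : ℕ) + 1) := by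
    let W : Subgroup Γ :=
      { carrier := {b | x⁻¹ * MulAut.conjNormal b x ∈ gam ↥N ((i : ℕ) + 1)}
        one_mem' := by simp
        mul_mem' := fun {b b'} (hb : x⁻¹ * MulAut.conjNormal b x ∈ gam ↥N ((i : ℕ) + 1))
          (hb' : x⁻¹ * MulAut.conjNormal b' x ∈ gam ↥N ((i : ℕ) + 1)) => by
          show x⁻¹ * MulAut.conjNormal (b * b') x ∈ gam ↥N ((i : ℕ) + 1)
          have := mul_mem hb (gam_map_mem (MulAut.conjNormal b) hb')
          rw [map_mul (MulAut.conjNormal b), map_inv, mul_assoc, mul_inv_cancel_left] at this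
          rwa [map_mul, MulAut.mul_apply]
        inv_mem' := fun {b} (hb : x⁻¹ * MulAut.conjNormal b x ∈ gam ↥N ((i : ℕ) + 1)) => by
          show x⁻¹ * MulAut.conjNormal b⁻¹ x ∈ gam ↥N ((i : ℕ) + 1)
          have := inv_mem (gam_map_mem (MulAut.conjNormal b⁻¹) hb)
          rw [map_mul, map_inv (MulAut.conjNormal b⁻¹), mul_inv_rev, inv_inv] at this
          rwa [← MulAut.mul_apply, ← map_mul, inv_mul_cancel, map_one, MulAut.one_apply] at this }
    exact fun b => (zpowers_le.2 (show a ∈ W from hmem)) b.2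
  obtain ⟨n, hn, hfixed⟩ := Coprime.exists_fixed_mul_mem_hom ψ hstab hcard
    (Or.inl (Group.isSolvable_of_comm fun u v => mul_comm' u v)) hall
  refine AddSubgroup.subset_closure ⟨i, x * n, mul_mem hx (gam_antitone _ (Nat.le_succ _) hn), ?_, ?_⟩
  · refine mem_centralizer_singleton_iff.2 ?_
    have h2 := congrArg Subtype.val (hfixed ⟨a, mem_zpowers a⟩)
    rw [show ψ ⟨a, mem_zpowers a⟩ = MulAut.conjNormal a from rfl, MulAut.conjNormal_apply,
      mul_inv_eq_iff_eq_mul] at h2
    exact h2.symm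
  · rw [gen_mul hx (gam_antitone _ (Nat.le_succ _) hn), gen_zero hn, add_zero, gen_of_lt i.2 hx, he]

theorem derK_fixK_eq_bot [Finite Γ] {p : ℕ} [Fact p.Prime] (hpN : (Nat.card N).Coprime p) {a : Γ}
    (hap : a ^ p = 1) {f : ℕ} (hf : dS (N ⊓ centralizer {a}) f = ⊥) :
    derK (fixK N m a) f = ⊥ := by
  have h : ∀ n, derK (fixK N m a) n ≤ AddSubgroup.closure
      {z | ∃ k x, ∃ hx : x ∈ gam ↥N k, (x : Γ) ∈ dS (N ⊓ centralizer {a}) n ∧ gen m k x hx = z} := by
    intro n
    induction n with
    | zero =>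
      refine (fixK_le hpN hap).trans (AddSubgroup.closure_mono ?_)
      rintro z ⟨k, x, hx, hxC, e⟩
      exact ⟨k, x, hx, ⟨x.2, hxC⟩, e⟩
    | succ n ih =>
      refine (AddSubgroup.closure_le _).2 ?_
      rintro _ ⟨x, hx, y, hy, rfl⟩
      have hx' := ih hx
      have hy' := ih hy
      clear hx hy ih
      induction hx' using AddSubgroup.closure_induction with
      | zero => simp
      | add u v _ _ hu hv => rw [map_add, AddMonoidHom.add_apply]; exact add_mem hu hv
      | neg u _ hu => rw [map_neg, AddMonoidHom.neg_apply]; exact neg_mem hu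
      | mem u hu =>
        induction hy' using AddSubgroup.closure_induction with
        | zero => simp
        | add v w _ _ hv hw => rw [map_add]; exact add_mem hv hw
        | neg v _ hv => rw [map_neg]; exact neg_mem hv
        | mem v hv =>
          obtain ⟨k, x', hx', hxd, rfl⟩ := hu
          obtain ⟨l, y', hy', hyd, rfl⟩ := hv
          rw [bracket_gen hx' hy']
          refine AddSubgroup.subset_closure ⟨_, _, _, ?_, rfl⟩
          show ((⁅x', y'⁆ : N) : Γ) ∈ ⁅dS (N ⊓ centralizer {a}) n, dS (N ⊓ centralizer {a}) n⁆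
          exact commutator_mem_commutator hxd hyd
  refine le_bot_iff.1 ((h f).trans ((AddSubgroup.closure_le _).2 ?_))
  rintro _ ⟨k, x, hx, hxd, rfl⟩
  rw [hf, Subgroup.mem_bot] at hxd
  exact AddSubgroup.mem_bot.2 ((gen_congr rfl (Subtype.ext hxd) hx (one_mem _)).trans (gen_zero (one_mem _)))

/-- **The class of a nilpotent group with a family of special subgroups.** -/
theorem class_le [Finite Γ] [IsMulCommutative A] [Group.IsNilpotent N]
    (hcop : (Nat.card A).Coprime (Nat.card N)) (F : Family A N c) {p : ℕ} [hp : Fact p.Prime]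
    (hpN : (Nat.card N).Coprime p) {a : Γ} (ha : a ∈ A) (hap : a ^ p = 1) {f : ℕ}
    (hf : dS (N ⊓ centralizer {a}) f = ⊥) : gam ↥N (classBound F.mem.card c p f) = ⊥ := by
  classical
  have : Fact (1 < p) := ⟨hp.out.one_lt⟩
  set w := wordBound F.mem.card c f with hw
  set s := soluBound p w with hs
  set b := classBound F.mem.card c p f with hb
  set m := b + 1 with hm
  let φ := act N m a
  have hφp : (⇑φ)^[p] = id := funext fun g => by rw [act_iterate, hap, act_one]; rfl
  -- the fixed points act nilpotently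
  have hK := wordSpan_eq_bot (word_eq_zero hcop F (fixK_inv ha) (fixK_spanned hcop F hpN ha hap)
    (fixK_closed a) (derK_fixK_eq_bot (m := m) hpN hap hf))
  have hD : IsGradedLie (conv (p := p) (bracket ↥N m)) (shiftSpace φ) := by
    refine ⟨conv_skew bracket_skew, conv_jacobi bracket_jacobi, brFam_le fun i j g hg g' hg' l => ?_⟩
    show φ (conv (bracket ↥N m) g g' l) = conv (bracket ↥N m) g g' (l - (i + j))
    rw [conv_apply, conv_apply, map_sum,
      ← Equiv.sum_comp (Equiv.subRight i) (fun t => bracket ↥N m (g t) (g' (l - (i + j) - t)))]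
    refine Finset.sum_congr rfl fun t _ => ?_
    rw [show φ (bracket ↥N m (g t) (g' (l - t))) = bracket ↥N m (φ (g t)) (φ (g' (l - t))) from
      ringMap_bracket _ _ _, hg t, hg' (l - t), Equiv.subRight_apply]
    congr 2
    ring
  have hzero : ∀ i, zeroIter (conv (bracket ↥N m)) (shiftSpace (p := p) φ) i w = ⊥ := by
    have h : ∀ t i, ∀ g ∈ zeroIter (conv (bracket ↥N m)) (shiftSpace (p := p) φ) i t, ∀ j,
        g j ∈ wordSpan (fixK N m a) t := by
      intro t
      induction t with
      | zero => exact fun i g _ j => mem_wordSpan_zero _ _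
      | succ t ih =>
        intro i g hg j
        induction hg using AddSubgroup.closure_induction with
        | zero => exact zero_mem _
        | add u v _ _ hu hv => exact add_mem hu hv
        | neg u _ hu => exact neg_mem hu
        | mem z hz =>
          obtain ⟨x, hx, y, hy, rfl⟩ := hz
          rw [conv_apply]
          refine sum_mem fun l _ => wordSpan_step (ih i x hx l) ?_
          have := hy (j - l)
          rwa [sub_zero] at this
    intro i
    refine (AddSubgroup.eq_bot_iff_forall _).2 fun g hg => funext fun j => ?_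
    have := h w i g hg j
    rwa [hK, AddSubgroup.mem_bot] at this
  have hder := derSeries_eq_bot' hD hzero
  -- the ring is soluble
  let δ : Ring ↥N m →+ (ZMod p → Ring ↥N m) := AddMonoidHom.single (fun _ => Ring ↥N m) 0
  let Q : ℕ → AddSubgroup (ZMod p → Ring ↥N m) := fun n =>
    (⨆ i, derSeries (conv (bracket ↥N m)) (shiftSpace φ) n i) ⊔ constants p (Ring ↥N m)
  have hQ : ∀ n, derK (⊤ : AddSubgroup (Ring ↥N m)) n ≤ (Q n).comap δ := by
    intro n
    induction n with
    | zero => exact fun x _ => mem_of_nsmul_mem hpN δ (single_nsmul_mem' hφp x)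
    | succ n ih =>
      refine (AddSubgroup.closure_le _).2 ?_
      rintro _ ⟨x, hx, y, hy, rfl⟩
      have h1 := conv_mem_derived (bracket ↥N m) (shiftSpace φ) n (ih hx) (ih hy)
      rw [show δ x = Pi.single 0 x from rfl, show δ y = Pi.single 0 y from rfl, conv_single,
        add_zero] at h1
      exact h1
  have hsol : derK (⊤ : AddSubgroup (Ring ↥N m)) s = ⊥ := by
    refine (AddSubgroup.eq_bot_iff_forall _).2 fun x hx => ?_
    have hle : Q s ≤ constants p (Ring ↥N m) := by
      refine sup_le (iSup_le fun i => ?_) le_rfl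
      rw [hder]
      exact bot_le
    obtain ⟨z, hz⟩ := hle (hQ s hx)
    have h0 := congrFun hz 0
    have h1 := congrFun hz 1
    simp [δ] at h0 h1
    rw [← h0, h1]
  -- hence its operators are nilpotent
  have hall := wordSpan_eq_bot (word_eq_zero hcop F (K := (⊤ : AddSubgroup (Ring ↥N m)))
    (fun _ _ _ _ => trivial) (top_spanned hcop F) (fun _ _ _ _ => trivial) hsol)
  have hgen : ∀ k x (hx : x ∈ gam ↥N k),
      gen m k x hx ∈ wordSpan (⊤ : AddSubgroup (Ring ↥N m)) k := by
    intro k
    induction k with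
    | zero => exact fun x hx => mem_wordSpan_zero _ _
    | succ k ih =>
      intro x hx
      induction hx using Subgroup.closure_induction with
      | one => rw [gen_zero (one_mem _)]; exact zero_mem _
      | mul u v hu hv h1 h2 => rw [gen_mul hu hv]; exact add_mem h1 h2
      | inv u hu h1 => rw [gen_inv hu]; exact neg_mem h1
      | mem z hz =>
        obtain ⟨u, hu, v, -, rfl⟩ := hz
        have hv : v ∈ gam ↥N 0 := mem_top v
        have := wordSpan_step (g := gen m 0 v hv) (ih u hu) trivial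
        rw [bracket_gen hu hv] at this
        exact this
  have hN : gam ↥N b ≤ gam ↥N (b + 1) := by
    intro x hx
    have h1 := hgen b x hx
    have hbot : wordSpan (⊤ : AddSubgroup (Ring ↥N m)) b = ⊥ := hall
    rw [hbot, AddSubgroup.mem_bot, gen_of_lt (show b < m by omega), Pi.single_eq_zero_iff,
      cls_eq_zero_iff] at h1
    exact h1
  obtain ⟨e, he⟩ := Subgroup.nilpotent_iff_lowerCentralSeries.1 (inferInstance : Group.IsNilpotent N)
  have hall' : ∀ j, gam ↥N b ≤ gam ↥N (b + j) := by
    intro j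
    induction j with
    | zero => exact le_rfl
    | succ j ihj =>
      refine hN.trans ?_
      show ⁅gam ↥N b, (⊤ : Subgroup ↥N)⁆ ≤ ⁅gam ↥N (b + j), (⊤ : Subgroup ↥N)⁆
      exact commutator_mono ihj le_rfl
  exact le_bot_iff.1 ((hall' e).trans ((gam_antitone _ (Nat.le_add_left e b)).trans he.le))

end Cfsg.Agent.CoprimeSpecial
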