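import Cfsg.Agent.Lib.LieGraded.Kreknin

/-!
# Kreknin's theorem with a nilpotently acting zero component

In a `ZMod p`-graded Lie ring in which `[x, a₁, ..., a_m] = 0` for all homogeneous `x` and all
`a_i` of degree zero, the derived length is bounded by `soluBound p m`.
-/

set_option autoImplicit false

namespace Cfsg.Agent.CoprimeSpecial

open LieGraded

universe u

variable {A : Type u} [AddCommGroup A] {p : ℕ}

/-- A grading, the zero component being arbitrary. -/
structure IsGradedLie (B : A →+ A →+ A) (D : ZMod p → AddSubgroup A) : Prop where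
  skew : ∀ x y, B x y = - B y x
  jacobi : ∀ x y z, B (B x y) z = B (B x z) y + B x (B y z)
  mul_mem : brFam B D D ≤ D

/-- `n + 1` applications of `t` steps. -/
def soluStep (m : ℕ) : ℕ → ℕ
  | 0 => 0
  | k + 1 => m * (soluStep m k + 1) + soluStep m k

/-- The bound on the derived length. -/
def soluBound (p m : ℕ) : ℕ := soluStep m p

variable {B : A →+ A →+ A} {D F : ZMod p → AddSubgroup A}

theorem genFam_closed' (hD : IsGradedLie B D) (F : ZMod p → AddSubgroup A) (k : ℕ) :
    brFam B (genFam B F k) (genFam B F k) ≤ genFam B F k := by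
  have key : ∀ b v, GenProd B F k b v → ∀ a u, u ∈ genFam B F k a → B u v ∈ genFam B F k (a + b) := by
    intro b v hv
    induction hv with
    | base hk hx => exact fun a u hu => genFam_mul_gen hu hk hx
    | @mul i j v l _ hk hl ih =>
      intro a u hu
      have h1 : B u (B v l) = B (B u v) l - B (B u l) v := by
        rw [hD.jacobi u v l]; abel
      rw [h1]
      refine sub_mem ?_ ?_
      · rw [← add_assoc]; exact genFam_mul_gen (ih a u hu) hk hl
      · rw [show a + (i + j) = a + j + i by ring]; exact ih _ _ (genFam_mul_gen hu hk hl)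
  refine brFam_le fun a b x hx y hy => ?_
  induction hy using AddSubgroup.closure_induction with
  | mem z hz => exact key b z hz a x hx
  | zero => simp
  | add u v _ _ hu hv => rw [map_add]; exact add_mem hu hv
  | neg u _ hu => rw [map_neg]; exact neg_mem hu

theorem genFam_mono {F' : ZMod p → AddSubgroup A} (h : F' ≤ F) (k : ℕ) :
    genFam B F' k ≤ genFam B F k := by
  intro c
  rw [genFam, AddSubgroup.closure_le]
  intro z hz
  refine AddSubgroup.subset_closure ?_
  induction hz with
  | base hk hx => exact GenProd.base hk (h _ hx)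
  | mul _ hk hx ih => exact GenProd.mul ih hk (h _ hx)

theorem genFam_mul_zero (hD : IsGradedLie B D) (hF : brFam B F F ≤ F) {k : ℕ} {a : A} (ha : a ∈ F 0)
    {c : ZMod p} {u : A} (hu : u ∈ genFam B F k c) : B u a ∈ genFam B F k c := by
  induction hu using AddSubgroup.closure_induction with
  | zero => simp
  | add x y _ _ hx hy => rw [map_add, AddMonoidHom.add_apply]; exact add_mem hx hy
  | neg x _ hx => rw [map_neg, AddMonoidHom.neg_apply]; exact neg_mem hx
  | mem z hz =>
    induction hz with
    | @base j x hk hx =>
      refine mem_genFam_of_le hk ?_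
      have := hF _ (mem_brFam hx ha)
      rwa [add_zero] at this
    | @mul i j v l hv hk hl ih =>
      rw [hD.jacobi v l a]
      refine add_mem (genFam_mul_gen ih hk hl) (genFam_mul_gen (AddSubgroup.subset_closure hv) hk ?_)
      have := hF _ (mem_brFam hl ha)
      rwa [add_zero] at this

/-- Elements of degree `k` bracketed `t` times with the zero component. -/
def zeroIter (B : A →+ A →+ A) (F : ZMod p → AddSubgroup A) (c : ZMod p) : ℕ → AddSubgroup A
  | 0 => F c
  | t + 1 => AddSubgroup.closure {z | ∃ x ∈ zeroIter B F c t, ∃ a ∈ F 0, B x a = z}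

theorem derSeries_closed (hF : brFam B F F ≤ F) (n : ℕ) :
    brFam B (derSeries B F n) (derSeries B F n) ≤ derSeries B F n ∧ derSeries B F n ≤ F := by
  induction n with
  | zero => exact ⟨hF, le_rfl⟩
  | succ n ih => exact ⟨brFam_mono ih.1 ih.1, ih.1.trans ih.2⟩

theorem mul_mem_top (hD : IsGradedLie B D) (hF : brFam B F F ≤ F) [NeZero p] {k : ℕ} (hkp : k < p)
    {i : ZMod p} {u : A} (hu : GenProd B F k i u) : ∀ b ∈ F ((k : ZMod p) - i),
      B u b ∈ genFam B F (k + 1) (k : ZMod p) ⊔ zeroIter B F (k : ZMod p) 1 := by
  have hkv : (k : ZMod p).val = k := ZMod.val_natCast_of_lt hkp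
  have hlow : ∀ x ∈ F (k : ZMod p), ∀ a ∈ F 0,
      B x a ∈ genFam B F (k + 1) (k : ZMod p) ⊔ zeroIter B F (k : ZMod p) 1 := fun x hx a ha =>
    AddSubgroup.mem_sup_right (AddSubgroup.subset_closure ⟨x, hx, a, ha, rfl⟩)
  have hhigh : ∀ j : ZMod p, k < j.val → ∀ x ∈ F j, ∀ b ∈ F ((k : ZMod p) - j),
      B x b ∈ genFam B F (k + 1) (k : ZMod p) ⊔ zeroIter B F (k : ZMod p) 1 := by
    intro j hj x hx b hb
    refine AddSubgroup.mem_sup_left ?_
    have hj' := ZMod.val_lt j
    have h2 : ((k : ZMod p) - j).val = k + p - j.val := by
      have h1 : ((k : ZMod p) - j) = ((k + p - j.val : ℕ) : ZMod p) := by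
        rw [Nat.cast_sub (by omega), Nat.cast_add, ZMod.natCast_self, ZMod.natCast_zmod_val, add_zero]
      rw [h1, ZMod.val_natCast_of_lt (by omega)]
    have := genFam_mul_gen (mem_genFam_of_le (B := B) (k := k + 1) hj hx)
      (b := (k : ZMod p) - j) (l := b) (by omega) hb
    rwa [add_sub_cancel] at this
  induction hu with
  | @base j x hj hx =>
    intro b hb
    rcases eq_or_lt_of_le hj with h | h
    · have hjk : j = (k : ZMod p) := by rw [h, ZMod.natCast_zmod_val]
      rw [hjk, sub_self] at hb
      exact hlow x (hjk ▸ hx) b hb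
    · exact hhigh j h x hx b hb
  | @mul i j v l hv hj hl ih =>
    intro b hb
    rw [hD.jacobi v l b]
    refine add_mem ?_ ?_
    · have hvF : v ∈ F i := by
        clear ih hb
        induction hv with
        | base _ hx => exact hx
        | mul _ _ hx ih' => exact hF _ (mem_brFam ih' hx)
      have hvb : B v b ∈ F (i + ((k : ZMod p) - (i + j))) := hF _ (mem_brFam hvF hb)
      rw [show i + ((k : ZMod p) - (i + j)) = (k : ZMod p) - j by ring] at hvb
      rw [hD.skew]
      refine neg_mem ?_
      rcases eq_or_lt_of_le hj with h | h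
      · have hjk : j = (k : ZMod p) := by rw [h, ZMod.natCast_zmod_val]
        rw [hjk, sub_self] at hvb
        exact hlow l (hjk ▸ hl) _ hvb
      · exact hhigh j h l hl _ hvb
    · refine ih _ ?_
      have := hF _ (mem_brFam hl hb)
      rwa [show j + ((k : ZMod p) - (i + j)) = (k : ZMod p) - i by ring] at this

/-- **Kreknin's theorem** with nilpotently acting zero component. -/
theorem derSeries_le_genFam' [NeZero p] (hD : IsGradedLie B D) (m : ℕ) (k : ℕ) : k ≤ p →
    ∀ F : ZMod p → AddSubgroup A, brFam B F F ≤ F → (∀ c, zeroIter B F c m = ⊥) →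
      derSeries B F (soluStep m k) ≤ genFam B F k := by
  induction k with
  | zero => intro _ F _ _ c x hx; exact mem_genFam_of_le (Nat.zero_le _) hx
  | succ k ih =>
    intro hk F hF hm
    have hk' : k ≤ p := by omega
    set n := soluStep m k
    -- `t` rounds
    have round : ∀ (t : ℕ) (F : ZMod p → AddSubgroup A), brFam B F F ≤ F → (∀ c, zeroIter B F c m = ⊥) →
        derSeries B F (t * (n + 1)) (k : ZMod p) ≤
          genFam B F (k + 1) (k : ZMod p) ⊔ zeroIter B F (k : ZMod p) t := by
      intro t
      induction t with
      | zero => intro F _ _; rw [Nat.zero_mul]; exact le_sup_right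
      | succ t iht =>
        intro F hF hm
        rw [Nat.succ_mul, derSeries_add]
        set F' := derSeries B F (t * (n + 1)) with hF'
        obtain ⟨hF'c, hF'F⟩ := derSeries_closed hF (t * (n + 1))
        have hm' : ∀ c, zeroIter B F' c m = ⊥ := by
          have hmono : ∀ c s, zeroIter B F' c s ≤ zeroIter B F c s := by
            intro c s
            induction s with
            | zero => exact hF'F c
            | succ s ihs =>
              exact AddSubgroup.closure_mono fun z ⟨x, hx, a, ha, e⟩ => ⟨x, ihs hx, a, hF'F 0 ha, e⟩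
          exact fun c => le_bot_iff.1 ((hmono c m).trans (hm c).le)
        intro x hx
        rw [derSeries, brFam] at hx
        induction hx using AddSubgroup.closure_induction with
        | zero => exact zero_mem _
        | add u v _ _ hu hv => exact add_mem hu hv
        | neg u _ hu => exact neg_mem hu
        | mem z hz =>
          obtain ⟨i, j, hij, a, ha, b, hb, rfl⟩ := hz
          have hb' : b ∈ F' ((k : ZMod p) - i) := by
            rw [← hij, add_sub_cancel_left]
            exact (derSeries_closed hF'c n).2 _ hb
          have h1 : B a b ∈ genFam B F' (k + 1) (k : ZMod p) ⊔ zeroIter B F' (k : ZMod p) 1 := by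
            have ha' := ih hk' F' hF'c hm' i ha
            clear ha
            induction ha' using AddSubgroup.closure_induction with
            | mem z hz => exact mul_mem_top hD hF'c (by omega) hz b hb'
            | zero => simp
            | add u v _ _ hu hv => rw [map_add, AddMonoidHom.add_apply]; exact add_mem hu hv
            | neg u _ hu => rw [map_neg, AddMonoidHom.neg_apply]; exact neg_mem hu
          generalize B a b = z at h1 ⊢
          obtain ⟨g, hg, r, hr, rfl⟩ := AddSubgroup.mem_sup.1 h1
          refine add_mem (AddSubgroup.mem_sup_left (genFam_mono hF'F _ _ hg)) ?_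
          clear h1 hg
          induction hr using AddSubgroup.closure_induction with
          | zero => exact zero_mem _
          | add u v _ _ hu hv => exact add_mem hu hv
          | neg u _ hu => exact neg_mem hu
          | mem z hz =>
            obtain ⟨y, hy, w, hw, rfl⟩ := hz
            obtain ⟨g', hg', r', hr', rfl⟩ := AddSubgroup.mem_sup.1 (iht F hF hm hy)
            rw [map_add, AddMonoidHom.add_apply]
            exact add_mem (AddSubgroup.mem_sup_left (genFam_mul_zero hD hF (hF'F 0 hw) hg'))
              (AddSubgroup.mem_sup_right (AddSubgroup.subset_closure ⟨r', hr', w, hF'F 0 hw, rfl⟩))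
    set F₁ := derSeries B F (m * (n + 1)) with hF₁
    obtain ⟨hF₁c, hF₁F⟩ := derSeries_closed hF (m * (n + 1))
    have hM : ∀ c : ZMod p, k ≤ c.val → F₁ c ≤ genFam B F (k + 1) c := by
      intro c hc
      rcases eq_or_lt_of_le hc with h | h
      · have hck : c = (k : ZMod p) := by rw [h, ZMod.natCast_zmod_val]
        have := round m F hF hm
        rw [hm, sup_bot_eq, ← hck] at this
        exact this
      · intro x hx
        exact mem_genFam_of_le h (hF₁F c hx)
    have hm₁ : ∀ c, zeroIter B F₁ c m = ⊥ := by
      have hmono : ∀ c s, zeroIter B F₁ c s ≤ zeroIter B F c s := by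
        intro c s
        induction s with
        | zero => exact hF₁F c
        | succ s ihs =>
          exact AddSubgroup.closure_mono fun z ⟨x, hx, a, ha, e⟩ => ⟨x, ihs hx, a, hF₁F 0 ha, e⟩
      exact fun c => le_bot_iff.1 ((hmono c m).trans (hm c).le)
    show derSeries B F (m * (n + 1) + n) ≤ _
    rw [derSeries_add]
    refine (ih hk' F₁ hF₁c hm₁).trans ?_
    intro c
    rw [genFam, AddSubgroup.closure_le]
    intro z hz
    induction hz with
    | base hj hx => exact hM _ hj hx
    | mul _ hj hx ih' => exact genFam_closed' hD F _ _ (mem_brFam ih' (hM _ hj hx))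

/-- A graded Lie ring with nilpotently acting zero component is soluble of bounded length. -/
theorem derSeries_eq_bot' [NeZero p] (hD : IsGradedLie B D) {m : ℕ}
    (hm : ∀ c, zeroIter B D c m = ⊥) : derSeries B D (soluBound p m) = ⊥ := by
  refine le_bot_iff.1 ((derSeries_le_genFam' hD m p le_rfl D hD.mul_mem hm).trans ?_)
  intro c
  rw [genFam, AddSubgroup.closure_le]
  intro z hz
  exfalso
  induction hz with
  | @base j _ hj _ => have := ZMod.val_lt j; omega
  | @mul _ j _ _ _ hj _ _ => have := ZMod.val_lt j; omega

end Cfsg.Agent.CoprimeSpecial
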