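import Cfsg.Agent.Lib.CoprimeSpecial.Ring

/-!
# A soluble group generated by Engel subgroups is nilpotent
-/

set_option autoImplicit false

namespace Cfsg.Agent.CoprimeSpecial

open Subgroup
open scoped commutatorElement

universe u

variable {Γ : Type u} [Group Γ]

/-- An element of order prime to `q` which centralises its commutator with `z`, that commutator
being a `q`-element, centralises `z`. -/
theorem commute_of_commutator_fixed {z x : Γ} {q : ℕ} (hx : (orderOf x).Coprime q)
    (hq : ∃ e, ⁅z, x⁆ ^ q ^ e = 1) (hc : ⁅⁅z, x⁆, x⁆ = 1) : ⁅z, x⁆ = 1 := by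
  obtain ⟨e, he⟩ := hq
  have h2 : Commute ⁅z, x⁆ x := commutatorElement_eq_one_iff_commute.1 hc
  have h3 : z * x * z⁻¹ = ⁅z, x⁆ * x := by rw [commutatorElement_def]; group
  have h4 : ⁅z, x⁆ ^ orderOf x = 1 := by
    have h5 : (z * x * z⁻¹) ^ orderOf x = 1 := by rw [conj_pow, pow_orderOf_eq_one]; group
    rwa [h3, h2.mul_pow, pow_orderOf_eq_one, mul_one] at h5
  have := pow_gcd_eq_one.2 ⟨h4, he⟩
  rwa [(hx.pow_right e).gcd_eq_one, pow_one] at this

/-- Engel elements of coprime order act trivially. -/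
theorem commute_of_engel {W : Subgroup Γ} [W.Normal] {x : Γ} {q : ℕ} (hx : (orderOf x).Coprime q)
    (hW : IsPGroup q W) :
    ∀ (c : ℕ), ∀ z ∈ W, (List.replicate c x).foldr (fun x z => ⁅z, x⁆) z = 1 → ⁅z, x⁆ = 1 := by
  intro c
  induction c with
  | zero => intro z _ h; simp only [List.replicate_zero, List.foldr_nil] at h; rw [h]; simp
  | succ c ih =>
    intro z hz h
    rw [List.replicate_succ', List.foldr_append, List.foldr_cons, List.foldr_nil] at h
    have hzx : ⁅z, x⁆ ∈ W := by
      rw [commutatorElement_def, mul_assoc, mul_assoc, ← mul_assoc x]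
      exact W.mul_mem hz (Normal.conj_mem inferInstance _ (W.inv_mem hz) x)
    refine commute_of_commutator_fixed hx ?_ (ih _ hzx h)
    obtain ⟨e, he⟩ := hW ⟨_, hzx⟩
    exact ⟨e, congrArg Subtype.val he⟩

theorem foldr_map {Δ : Type*} [Group Δ] (π : Γ →* Δ) (z : Γ) (l : List Γ) :
    π (l.foldr (fun x z => ⁅z, x⁆) z) = (l.map π).foldr (fun x z => ⁅z, x⁆) (π z) := by
  induction l with
  | nil => rfl
  | cons y ys ih => rw [List.map_cons, List.foldr_cons, List.foldr_cons, map_commutatorElement, ih]

variable {A N : Subgroup Γ}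

set_option maxHeartbeats 1000000 in
/-- A soluble normal subgroup generated by Engel subgroups is nilpotent. -/
theorem nilpotent_of_engel [Finite Γ] [IsMulCommutative A] [N.Normal]
    (hcop : (Nat.card A).Coprime (Nat.card N)) (hsol : Group.IsSolvable N) (mem : Set (Subgroup Γ))
    (hle : ∀ S ∈ mem, S ≤ N) (hgen : N ≤ ⨆ S ∈ mem, S) (c : ℕ)
    (hengel : ∀ S ∈ mem, ∀ B, IsCocyclic A B → ∀ u ∈ N ⊓ centralizer (B : Set Γ), ∀ l : List Γ,
      l.length = c → (∀ x ∈ l, x ∈ S) → l.foldr (fun x z => ⁅z, x⁆) u = 1) :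
    Group.IsNilpotent N := by
  classical
  rw [Subgroup.isNilpotent_iff_lowerCentralSeries]
  obtain ⟨n, hn⟩ : ∃ n, N.lowerCentralSeries (n + 1) = N.lowerCentralSeries n := by
    by_contra h
    push Not at h
    have hlt : ∀ n, Nat.card (N.lowerCentralSeries n) + n ≤ Nat.card N := by
      intro n
      induction n with
      | zero => simp
      | succ n ih =>
        have h1 : N.lowerCentralSeries (n + 1) < N.lowerCentralSeries n :=
          lt_of_le_of_ne (N.lowerCentralSeries_antitone (Nat.le_succ n)) (h n)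
        have h2 : Nat.card (N.lowerCentralSeries (n + 1)) < Nat.card (N.lowerCentralSeries n) := by
          by_contra hge
          exact h1.ne (Subgroup.eq_of_le_of_card_ge h1.le (not_lt.1 hge))
        omega
    have := hlt (Nat.card N + 1)
    omega
  refine ⟨n, ?_⟩
  set R := N.lowerCentralSeries n with hR
  have hRN : R ≤ N := N.lowerCentralSeries_le_self n
  have hRfix : ⁅R, N⁆ = R := hn
  by_contra hne
  have hRne : Nontrivial R := (Subgroup.nontrivial_iff_ne_bot R).2 hne
  have hsolR : Group.IsSolvable R :=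
    Group.isSolvable_of_isSolvable_injective (f := Subgroup.inclusion hRN) (inclusion_injective hRN)
  -- a prime dividing the abelianisation of `R`
  have : Finite (Abelianization R) := Finite.of_surjective _ (QuotientGroup.mk'_surjective (_root_.commutator R))
  have hQ : Nontrivial (Abelianization R) := by
    rw [← not_subsingleton_iff_nontrivial]
    intro hs
    have h1 := Group.IsSolvable.commutator_lt_top_of_nontrivial R
    apply h1.ne
    refine eq_top_iff.2 fun x _ => ?_
    rw [← Abelianization.ker_of]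
    exact Subsingleton.elim (Abelianization.of x) 1
  obtain ⟨q, hq, hqd⟩ := Nat.exists_prime_and_dvd
    (show Nat.card (Abelianization R) ≠ 1 from Finite.one_lt_card.ne')
  have hqf : Fact q.Prime := ⟨hq⟩
  let H : Subgroup R := (powMonoidHom q : Abelianization R →* Abelianization R).range.comap
    Abelianization.of
  have hH : H ≠ ⊤ := by
    intro h
    obtain ⟨x, hx⟩ := exists_prime_orderOf_dvd_card' q hqd
    have hsurj : Function.Surjective (powMonoidHom q : Abelianization R →* Abelianization R) := by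
      intro y
      obtain ⟨r, rfl⟩ := QuotientGroup.mk'_surjective (_root_.commutator R) y
      exact (show r ∈ H by rw [h]; trivial)
    have hinj := Finite.injective_iff_surjective.2 hsurj
    have : x = 1 := hinj (by
      show x ^ q = 1 ^ q
      rw [one_pow, ← hx, pow_orderOf_eq_one])
    rw [this, orderOf_one] at hx
    exact hq.one_lt.ne hx
  let W : Subgroup Γ := ⁅R, R⁆ ⊔ normalClosure {x | ∃ r ∈ R, r ^ q = x}
  have hWn : W.Normal := inferInstance
  have hWH : W ≤ H.map R.subtype := by
    refine sup_le ?_ ((closure_le _).2 ?_)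
    · rw [← map_subtype_commutator]
      refine map_mono fun x hx => ?_
      refine mem_comap.2 ?_
      rw [← Abelianization.ker_of] at hx
      rw [MonoidHom.mem_ker.1 hx]
      exact one_mem _
    · intro x hx
      obtain ⟨y, ⟨r, hr, rfl⟩, hy⟩ := Group.mem_conjugatesOfSet_iff.1 hx
      obtain ⟨g, rfl⟩ := isConj_iff.1 hy
      have hgr : g * r * g⁻¹ ∈ R := Normal.conj_mem inferInstance r hr g
      refine ⟨⟨g * r * g⁻¹, hgr⟩ ^ q, ⟨Abelianization.of ⟨g * r * g⁻¹, hgr⟩, ?_⟩, ?_⟩
      · rw [map_pow]; rfl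
      · rw [map_pow]; exact conj_pow
  let π := QuotientGroup.mk' W
  have hπ : ∀ x, π x = 1 ↔ x ∈ W := fun x => QuotientGroup.eq_one_iff x
  set V := R.map π with hV
  have hVn : V.Normal := Normal.map inferInstance π (QuotientGroup.mk'_surjective W)
  have hVq : IsPGroup q V := by
    rintro ⟨_, r, hr, rfl⟩
    refine ⟨1, Subtype.ext ?_⟩
    rw [SubmonoidClass.coe_pow, pow_one, OneMemClass.coe_one, ← map_pow, hπ]
    exact mem_sup_right (subset_normalClosure ⟨r, hr, rfl⟩)
  have hVne : V ≠ ⊥ := by
    intro h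
    apply hH
    refine eq_top_iff.2 fun r _ => ?_
    obtain ⟨s, hs, e⟩ := hWH ((hπ r).1 (mem_bot.1 (h ▸ mem_map_of_mem π r.2)))
    rwa [show s = r from Subtype.ext e] at hs
  let K : Subgroup Γ := (centralizer (V : Set (Γ ⧸ W))).comap π
  have hRK : R ≤ K := by
    intro x hx
    refine mem_centralizer_iff.2 ?_
    rintro _ ⟨r, hr, rfl⟩
    rw [← commutatorElement_eq_one_iff_mul_comm, ← map_commutatorElement, hπ]
    exact mem_sup_left (commutator_mem_commutator hr hx)
  have hKn : K.Normal := inferInstance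
  -- elements of members of order prime to `q` lie in `K`
  have hqK : ∀ S ∈ mem, ∀ x ∈ S, (orderOf x).Coprime q → x ∈ K := by
    intro S hS x hx hxq
    have hle : R ≤ (centralizer {π x}).comap π := by
      refine Coprime.le_of_forall_cyclic_quotient ?_ (hcop.coprime_dvd_right (card_dvd_of_le hRN)) ?_
      · exact normalizer_eq_top (H := R) ▸ le_top
      · rintro B hB hc u ⟨hu, huB⟩
        refine mem_centralizer_singleton_iff.2 ?_
        have h1 := hengel S hS B ⟨hB, hc⟩ u ⟨hRN hu, huB⟩ (List.replicate c x) List.length_replicate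
          fun y hy => (List.eq_of_mem_replicate hy) ▸ hx
        have h2 := congrArg π h1
        rw [foldr_map, List.map_replicate, map_one] at h2
        exact commutatorElement_eq_one_iff_mul_comm.1 (commute_of_engel (W := V)
          (hxq.coprime_dvd_left (orderOf_map_dvd π x)) hVq c _ (mem_map_of_mem π hu) h2)
    refine mem_centralizer_iff.2 ?_
    rintro _ ⟨r, hr, rfl⟩
    exact mem_centralizer_singleton_iff.1 (hle hr)
  -- `N / (K ∩ N)` is a `q`-group
  let K' : Subgroup N := K.subgroupOf N
  let θ := QuotientGroup.mk' K'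
  have hMnil : Group.IsNilpotent (N ⧸ K') := by
    rw [Subgroup.nilpotent_iff_lowerCentralSeries]
    refine ⟨n, le_bot_iff.1 ?_⟩
    rw [← map_top_of_surjective θ (QuotientGroup.mk'_surjective K'), ← map_lowerCentralSeries,
      (Subgroup.map_eq_bot_iff _).2]
    rw [QuotientGroup.ker_mk']
    intro x hx
    refine hRK ?_
    have := mem_map_of_mem N.subtype hx
    rwa [top_subtype_lowerCentralSeries] at this
  obtain ⟨Q⟩ : Nonempty (Sylow q (N ⧸ K')) := inferInstance
  have hQn : (Q : Subgroup (N ⧸ K')).Normal :=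
    (Group.isNilpotent_of_finite_tfae.out 0 3 rfl rfl).mp hMnil q hqf Q
  have hQtop : (Q : Subgroup (N ⧸ K')) = ⊤ := by
    refine eq_top_iff.2 fun y _ => ?_
    obtain ⟨x, rfl⟩ := QuotientGroup.mk'_surjective K' y
    have hle : N ≤ ((Q : Subgroup (N ⧸ K')).comap θ).map N.subtype := by
      refine hgen.trans (iSup₂_le fun S hS s hs => ?_)
      let s' : N := ⟨s, hle S hS hs⟩
      refine ⟨s', ?_, rfl⟩
      obtain ⟨e, m, hm, he⟩ := Nat.exists_eq_pow_mul_and_not_dvd (orderOf_pos s).ne' q hq.ne_one
      have h1 : θ s' ^ q ^ e = 1 := by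
        rw [← map_pow]
        refine (QuotientGroup.eq_one_iff _).2 ?_
        show ((s' ^ q ^ e : N) : Γ) ∈ K
        rw [SubmonoidClass.coe_pow]
        refine hqK S hS _ (pow_mem hs _) ?_
        rw [orderOf_pow, he, Nat.gcd_mul_right_left,
          Nat.mul_div_cancel_left _ (pow_pos hq.pos _)]
        exact (hq.coprime_iff_not_dvd.2 hm).symm
      have hpg : IsPGroup q (zpowers (θ s')) := by
        obtain ⟨j, -, hj⟩ := (Nat.dvd_prime_pow hq).1 (orderOf_dvd_of_pow_eq_one h1)
        exact IsPGroup.of_card (n := j) (by rw [Nat.card_zpowers, hj])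
      have hsup := hpg.to_sup_of_normal_right Q.isPGroup'
      exact (Q.is_maximal' hsup le_sup_right) ▸ mem_sup_left (mem_zpowers (θ s'))
    obtain ⟨z, hz, e⟩ := hle x.2
    rwa [show z = x from Subtype.ext e] at hz
  obtain ⟨P⟩ : Nonempty (Sylow q N) := inferInstance
  have hPK : (P : Subgroup N) ⊔ K' = ⊤ := by
    obtain ⟨j, hj⟩ := IsPGroup.iff_card.1 (IsPGroup.iff_orderOf.2 fun y : N ⧸ K' => by
      obtain ⟨j, hj⟩ := Q.isPGroup' ⟨y, by rw [hQtop]; trivial⟩
      obtain ⟨i, -, hi⟩ := (Nat.dvd_prime_pow hq).1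
        (orderOf_dvd_of_pow_eq_one (show y ^ q ^ j = 1 from congrArg Subtype.val hj))
      exact ⟨i, hi⟩)
    have hd1 := index_dvd_of_le (le_sup_left : (P : Subgroup N) ≤ (P : Subgroup N) ⊔ K')
    have hd2 := index_dvd_of_le (le_sup_right : K' ≤ (P : Subgroup N) ⊔ K')
    rw [show K'.index = q ^ j from hj] at hd2
    refine index_eq_one.1 (Nat.eq_one_of_dvd_one ?_)
    have h3 : Nat.Coprime (P : Subgroup N).index (q ^ j) :=
      ((hq.coprime_iff_not_dvd.2 P.not_dvd_index).symm).pow_right j
    rw [← h3.gcd_eq_one]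
    exact Nat.dvd_gcd hd1 hd2
  -- so `N` acts on `V` as a `q`-group
  set P' := ((P : Subgroup N).map N.subtype).map π with hP'
  have hP'q : IsPGroup q P' := (P.isPGroup'.map N.subtype).map π
  have hlt := Coprime.commutator_lt_of_isPGroup hP'q hVq
    (normalizer_eq_top (H := V) ▸ le_top) hVne
  refine hlt.not_ge ?_
  have hVN : V = ⁅V, N.map π⁆ := by rw [hV, ← map_commutator, hRfix]
  conv_lhs => rw [hVN]
  refine commutator_le.2 ?_
  rintro v hv _ ⟨x, hx, rfl⟩
  obtain ⟨y, hy, k, hk, e⟩ := mem_sup_of_normal_right.1 (show (⟨x, hx⟩ : N) ∈ (P : Subgroup N) ⊔ K' by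
    rw [hPK]; trivial)
  rw [show x = (y : Γ) * k from (congrArg Subtype.val e).symm, map_mul]
  have hk' : ⁅v, π k⁆ = 1 :=
    commutatorElement_eq_one_iff_mul_comm.2 (mem_centralizer_iff.1 (show π k ∈ centralizer (V : Set _) from hk) v hv)
  rw [commutatorElement_mul_right_eq_mul_conj, hk']
  simp only [mul_one, mul_inv_cancel_right]
  exact commutator_mem_commutator hv (mem_map_of_mem π (mem_map_of_mem N.subtype hy))

end Cfsg.Agent.CoprimeSpecial
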