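import Mathlib.Algebra.BigOperators.Group.List.Lemmas
import Mathlib.Algebra.Group.Subgroup.Lattice
import Mathlib.Data.List.Perm.Subperm
import Mathlib.Tactic.Ring
import Mathlib.Tactic.Abel
import Mathlib.Tactic.NoncommRing
import Mathlib.Algebra.Order.BigOperators.Group.Finset
import Mathlib.Data.Fintype.Card

/-!
# Nilpotency of soluble families of nilpotent operators

`S 0 ⊇ S 1 ⊇ ...` are sets in an associative ring with `[S n, S n] ⊆ S (n+1)`-span. If each
`S n` lies in the span of those of its members which lie in one of finitely many `P i`, all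
products of `c` members of one `P i` vanish, and `S f` spans `0`, then products of boundedly many
members of `S 0` vanish.
-/

set_option autoImplicit false

namespace Cfsg.Agent.CoprimeSpecial

universe u v

variable {R : Type u} [Ring R]

/-- The bound on the length of a nonzero word. -/
def wordBound (M c : ℕ) : ℕ → ℕ
  | 0 => 1
  | f + 1 => wordBound M c f * (M * c + 1)

/-- Sums of words over `S` with at least `t` letters in `T`. -/
def marked (S T : AddSubgroup R) (t : ℕ) : AddSubgroup R :=
  AddSubgroup.closure {z | ∃ (k : List R) (u : List R), t ≤ k.length ∧ (∀ x ∈ k, x ∈ T) ∧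
    (∀ x ∈ u, x ∈ S) ∧ k.prod * u.prod = z}

variable {S T : AddSubgroup R}

/-- Letters of the ideal move to the left. -/
theorem prod_mul_marked (hcomm : ∀ x ∈ S, ∀ y ∈ T, x * y - y * x ∈ T) :
    ∀ (u : List R), (∀ x ∈ u, x ∈ S) → ∀ (k : List R), (∀ x ∈ k, x ∈ T) →
      u.prod * k.prod ∈ marked S T k.length := by
  intro u
  induction u using List.reverseRecOn with
  | nil =>
    intro _ k hk
    exact AddSubgroup.subset_closure ⟨k, [], le_rfl, hk, by simp, by simp⟩
  | append_singleton u s ih =>
    intro hu k
    have hu' : ∀ x ∈ u, x ∈ S := fun x hx => hu x (List.mem_append_left _ hx)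
    have hs : s ∈ S := hu s (by simp)
    have hmulR : ∀ t z, z ∈ marked S T t → ∀ w ∈ S, z * w ∈ marked S T t := by
      intro t z hz w hw
      induction hz using AddSubgroup.closure_induction with
      | mem z hz =>
        obtain ⟨k, v, hl, hk, hv, rfl⟩ := hz
        refine AddSubgroup.subset_closure ⟨k, v ++ [w], hl, hk, ?_, by simp [mul_assoc]⟩
        intro x hx
        rcases List.mem_append.1 hx with hx | hx
        · exact hv x hx
        · rw [List.mem_singleton.1 hx]; exact hw
      | zero => simp
      | add a b _ _ ha hb => rw [add_mul]; exact add_mem ha hb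
      | neg a _ ha => rw [neg_mul]; exact neg_mem ha
    intro hk
    -- `s * k.prod` is a sum of `k' * 1` and `k.prod * s`
    have key : ∀ k : List R, (∀ x ∈ k, x ∈ T) → ∀ w : List R, (∀ x ∈ w, x ∈ T) →
        u.prod * (w.prod * (s * k.prod)) ∈ marked S T (w.length + k.length) := by
      intro k
      induction k with
      | nil =>
        intro _ w hw
        simp only [List.prod_nil, mul_one, List.length_nil, add_zero]
        rw [← mul_assoc]
        exact hmulR _ _ (ih hu' w hw) s hs
      | cons a k ihk =>
        intro hk w hw
        have hka : a ∈ T := hk a (List.mem_cons_self ..)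
        have hk' : ∀ x ∈ k, x ∈ T := fun x hx => hk x (List.mem_cons_of_mem _ hx)
        have e : u.prod * (w.prod * (s * (a :: k).prod)) =
            u.prod * ((w ++ [a]).prod * (s * k.prod)) +
              u.prod * ((w ++ (s * a - a * s) :: k).prod) := by
          simp only [List.prod_cons, List.prod_append, List.prod_nil, mul_one]
          noncomm_ring
        rw [e]
        refine add_mem ?_ ?_
        · have := ihk hk' (w ++ [a]) (by
            intro x hx
            rcases List.mem_append.1 hx with hx | hx
            · exact hw x hx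
            · rw [List.mem_singleton.1 hx]; exact hka)
          simpa [Nat.add_assoc, Nat.add_comm 1] using this
        · have := ih hu' (w ++ (s * a - a * s) :: k) (by
            intro x hx
            rcases List.mem_append.1 hx with hx | hx
            · exact hw x hx
            · rcases List.mem_cons.1 hx with rfl | hx
              · exact hcomm s hs a hka
              · exact hk' x hx)
          simpa using this
    have := key k hk [] (by simp)
    simpa [mul_assoc] using this

theorem marked_mul (hcomm : ∀ x ∈ S, ∀ y ∈ T, x * y - y * x ∈ T) {a b : ℕ} {x y : R}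
    (hx : x ∈ marked S T a) (hy : y ∈ marked S T b) : x * y ∈ marked S T (a + b) := by
  induction hx using AddSubgroup.closure_induction with
  | zero => simp
  | add z z' _ _ hz hz' => rw [add_mul]; exact add_mem hz hz'
  | neg z _ hz => rw [neg_mul]; exact neg_mem hz
  | mem z hz =>
    obtain ⟨k, u, hk, hkT, hu, rfl⟩ := hz
    induction hy using AddSubgroup.closure_induction with
    | zero => simp
    | add z z' _ _ hz hz' => rw [mul_add]; exact add_mem hz hz'
    | neg z _ hz => rw [mul_neg]; exact neg_mem hz
    | mem z hz =>
      obtain ⟨k', u', hk', hk'T, hu', rfl⟩ := hz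
      have h := prod_mul_marked hcomm u hu k' hk'T
      rw [show k.prod * u.prod * (k'.prod * u'.prod) = k.prod * (u.prod * k'.prod) * u'.prod by
        simp only [mul_assoc]]
      generalize u.prod * k'.prod = q at h ⊢
      induction h using AddSubgroup.closure_induction with
      | zero => simp
      | add z z' _ _ hz hz' => rw [mul_add, add_mul]; exact add_mem hz hz'
      | neg z _ hz => rw [mul_neg, neg_mul]; exact neg_mem hz
      | mem z hz =>
        obtain ⟨k'', u'', hk'', hk''T, hu'', rfl⟩ := hz
        refine AddSubgroup.subset_closure ⟨k ++ k'', u'' ++ u', ?_, ?_, ?_, by simp [mul_assoc]⟩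
        · rw [List.length_append]; omega
        · intro x hx; rcases List.mem_append.1 hx with hx | hx
          · exact hkT x hx
          · exact hk''T x hx
        · intro x hx; rcases List.mem_append.1 hx with hx | hx
          · exact hu'' x hx
          · exact hu' x hx

/-- Rearranging costs a letter of the ideal. -/
theorem perm_sub_mem (hcomm : ∀ x ∈ S, ∀ y ∈ T, x * y - y * x ∈ T)
    (hder : ∀ x ∈ S, ∀ y ∈ S, x * y - y * x ∈ T) {l l' : List R} (hp : l.Perm l') :
    (∀ x ∈ l, x ∈ S) → ∀ w : List R, (∀ x ∈ w, x ∈ S) → w.prod * (l.prod - l'.prod) ∈ marked S T 1 := by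
  induction hp with
  | nil => intro _ w _; simp
  | @cons a l l' _ ih =>
    intro h w hw
    have := ih (fun x hx => h x (List.mem_cons_of_mem _ hx)) (w ++ [a]) (by
      intro x hx
      rcases List.mem_append.1 hx with hx | hx
      · exact hw x hx
      · rw [List.mem_singleton.1 hx]; exact h a (List.mem_cons_self ..))
    simpa [mul_assoc, mul_sub] using this
  | swap a b l =>
    intro h w hw
    have ha : a ∈ S := h a (by simp)
    have hb : b ∈ S := h b (by simp)
    have h1 := prod_mul_marked hcomm w hw [b * a - a * b] (by simpa using hder b hb a ha)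
    have e : w.prod * ((b :: a :: l).prod - (a :: b :: l).prod) =
        w.prod * [b * a - a * b].prod * l.prod := by
      simp only [List.prod_cons, List.prod_nil, mul_one]
      noncomm_ring
    rw [e]
    have hl : ∀ x ∈ l, x ∈ S := fun x hx => h x (by simp [hx])
    clear h e
    generalize w.prod * [b * a - a * b].prod = q at h1 ⊢
    induction h1 using AddSubgroup.closure_induction with
    | zero => simp
    | add z z' _ _ hz hz' => rw [add_mul]; exact add_mem hz hz'
    | neg z _ hz => rw [neg_mul]; exact neg_mem hz
    | mem z hz =>
      obtain ⟨k, u, hk, hkT, hu, rfl⟩ := hz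
      refine AddSubgroup.subset_closure ⟨k, u ++ l, hk, hkT, ?_, by simp [mul_assoc]⟩
      intro x hx; rcases List.mem_append.1 hx with hx | hx
      · exact hu x hx
      · exact hl x hx
  | @trans l₁ l₂ l₃ h12 _ ih ih' =>
    intro h w hw
    have := add_mem (ih h w hw) (ih' (fun x hx => h x (h12.mem_iff.2 hx)) w hw)
    rwa [← mul_add, sub_add_sub_cancel] at this

/-- Products of members of `S` are sums of products of generators. -/
theorem prod_mem_of_span {W : Set R} (hW : S ≤ AddSubgroup.closure W) {Z : AddSubgroup R} :
    ∀ (n : ℕ) (q : R), (∀ l : List R, l.length = n → (∀ x ∈ l, x ∈ W) → q * l.prod ∈ Z) →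
      ∀ l : List R, l.length = n → (∀ x ∈ l, x ∈ S) → q * l.prod ∈ Z := by
  intro n
  induction n with
  | zero =>
    intro q h l hl _
    rw [List.length_eq_zero_iff.1 hl]
    exact h [] rfl (by simp)
  | succ n ih =>
    intro q h l hl hlS
    obtain ⟨a, t, rfl⟩ := List.exists_cons_of_length_eq_add_one hl
    simp only [List.length_cons, Nat.add_right_cancel_iff] at hl
    have ha := hW (hlS a (List.mem_cons_self ..))
    have ht : ∀ x ∈ t, x ∈ S := fun x hx => hlS x (List.mem_cons_of_mem _ hx)
    clear hlS
    rw [List.prod_cons, ← mul_assoc]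
    induction ha using AddSubgroup.closure_induction with
    | zero => simp
    | add z z' _ _ hz hz' => rw [mul_add, add_mul]; exact add_mem hz hz'
    | neg z _ hz => rw [mul_neg, neg_mul]; exact neg_mem hz
    | mem z hz =>
      refine ih (q * z) (fun l' hl' hlW => ?_) t hl ht
      have := h (z :: l') (by simp [hl']) (by
        intro x hx
        rcases List.mem_cons.1 hx with rfl | hx
        · exact hz
        · exact hlW x hx)
      simpa [mul_assoc] using this

/-- A long product of generators contains `c` generators from the same `P i`. -/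
theorem block_mem (hcomm : ∀ x ∈ S, ∀ y ∈ T, x * y - y * x ∈ T)
    (hder : ∀ x ∈ S, ∀ y ∈ S, x * y - y * x ∈ T)
    {ι : Type v} [Fintype ι] (P : ι → AddSubgroup R) {c : ℕ}
    (hP : ∀ i, ∀ l : List R, l.length = c → (∀ x ∈ l, x ∈ P i) → l.prod = 0)
    (hW : S ≤ AddSubgroup.closure {x | x ∈ S ∧ ∃ i, x ∈ P i}) {l : List R}
    (hl : l.length = Fintype.card ι * c + 1) (hlS : ∀ x ∈ l, x ∈ S) :
    l.prod ∈ marked S T 1 := by
  classical
  rw [← one_mul l.prod]
  refine prod_mem_of_span hW _ 1 (fun l hl hlW => ?_) l hl hlS
  rw [one_mul]
  let g : R → ι → ℕ := fun x i => if x ∈ P i then 1 else 0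
  obtain ⟨i, hi⟩ : ∃ i, c ≤ (l.filter fun x => x ∈ P i).length := by
    by_contra! hall
    have hle : l.length ≤ ∑ i, (l.filter fun x => x ∈ P i).length := by
      clear hl hall
      induction l with
      | nil => simp
      | cons a t ih =>
        have := ih fun x hx => hlW x (List.mem_cons_of_mem _ hx)
        obtain ⟨-, j, hj⟩ := hlW a (List.mem_cons_self ..)
        have h1 : ∀ i, ((a :: t).filter fun x => x ∈ P i).length =
            (t.filter fun x => x ∈ P i).length + g a i := by
          intro i
          by_cases h : a ∈ P i <;> simp [h, g]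
        simp only [h1, Finset.sum_add_distrib, List.length_cons]
        have h2 : 1 ≤ ∑ i, g a i :=
          (by simp [g, hj] : 1 ≤ g a j).trans (Finset.single_le_sum (fun _ _ => Nat.zero_le _) (Finset.mem_univ j))
        omega
    have := Finset.sum_le_card_nsmul Finset.univ (fun i => (l.filter fun x => x ∈ P i).length) c
      (fun i _ => (hall i).le)
    rw [smul_eq_mul, Finset.card_univ] at this
    omega
  set f := l.filter fun x => x ∈ P i
  set l' := f ++ l.filter fun x => !decide (x ∈ P i)
  have hp : l.Perm l' := (List.filter_append_perm _ _).symm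
  have hzero : l'.prod = 0 := by
    rw [List.prod_append, ← List.take_append_drop c f, List.prod_append,
      hP i (f.take c) (by rw [List.length_take]; omega) (fun x hx => by
        have := List.mem_of_mem_take hx
        simpa using (List.mem_filter.1 this).2), zero_mul, zero_mul]
  have := perm_sub_mem hcomm hder hp (fun x hx => (hlW x hx).1) [] (by simp)
  simpa [hzero] using this

/-- **Soluble families of nilpotent operators are nilpotent.** -/
theorem prod_eq_zero {ι : Type v} [Fintype ι] (P : ι → AddSubgroup R) {c : ℕ}
    (hP : ∀ i, ∀ l : List R, l.length = c → (∀ x ∈ l, x ∈ P i) → l.prod = 0) :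
    ∀ (f : ℕ) (S : ℕ → AddSubgroup R), (∀ n, S (n + 1) ≤ S n) →
      (∀ n, ∀ x ∈ S n, ∀ y ∈ S n, x * y - y * x ∈ S (n + 1)) →
      (∀ n, S n ≤ AddSubgroup.closure {x | x ∈ S n ∧ ∃ i, x ∈ P i}) → S f = ⊥ →
      ∀ l : List R, l.length = wordBound (Fintype.card ι) c f → (∀ x ∈ l, x ∈ S 0) → l.prod = 0 := by
  intro f
  induction f with
  | zero =>
    intro S _ _ _ h l hl hlS
    obtain ⟨a, t, rfl⟩ := List.exists_cons_of_length_eq_add_one (n := 0) hl
    have := hlS a (List.mem_cons_self ..)
    rw [h, AddSubgroup.mem_bot] at this
    rw [List.prod_cons, this, zero_mul]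
  | succ f ih =>
    intro S hanti hder hW h l hl hlS
    have hT := ih (fun n => S (n + 1)) (fun n => hanti _) (fun n => hder _) (fun n => hW _) h
    set D := wordBound (Fintype.card ι) c f with hD
    have hcomm : ∀ x ∈ S 0, ∀ y ∈ S 1, x * y - y * x ∈ S 1 := fun x hx y hy =>
      hder 0 x hx y (hanti 0 hy)
    have key : ∀ t, ∀ l : List R, l.length = t * (Fintype.card ι * c + 1) →
        (∀ x ∈ l, x ∈ S 0) → l.prod ∈ marked (S 0) (S 1) t := by
      intro t
      induction t with
      | zero =>
        intro l hl _
        rw [List.length_eq_zero_iff.1 (show l.length = 0 by simpa using hl)]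
        exact AddSubgroup.subset_closure ⟨[], [], le_rfl, by simp, by simp, by simp⟩
      | succ t iht =>
        intro l hl hlS
        rw [Nat.succ_mul] at hl
        rw [← List.take_append_drop (t * (Fintype.card ι * c + 1)) l, List.prod_append]
        refine marked_mul hcomm (iht _ (by rw [List.length_take]; omega)
          fun x hx => hlS x (List.mem_of_mem_take hx)) ?_
        exact block_mem hcomm (hder 0) P hP (hW 0) (by rw [List.length_drop]; omega)
          fun x hx => hlS x (List.mem_of_mem_drop hx)
    have hm := key D l hl hlS
    clear hl hlS key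
    generalize l.prod = q at hm ⊢
    induction hm using AddSubgroup.closure_induction with
    | zero => rfl
    | add a b _ _ ha hb => rw [ha, hb, add_zero]
    | neg a _ ha => rw [ha, neg_zero]
    | mem z hz =>
      obtain ⟨k, u, hk, hkT, -, rfl⟩ := hz
      rw [← List.take_append_drop D k, List.prod_append,
        hT (k.take D) (by rw [List.length_take]; exact min_eq_left hk)
          fun x hx => hkT x (List.mem_of_mem_take hx), zero_mul, zero_mul]

end Cfsg.Agent.CoprimeSpecial
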