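import Cfsg.Agent.Lib.LieGraded.Fpf
import Cfsg.Agent.Lib.CoprimeSpecial.Words
import Cfsg.Agent.Lib.CoprimeSpecial.Kreknin
import Cfsg.Agent.Lib.Coprime.Commutator
import Cfsg.Agent.Lib.Coprime.Generation
import Cfsg.Agent.Lib.Coprime.Sylow

/-!
# Nilpotency class from a family of special subgroups

`Family A N c`: a finite family of `A`-invariant subgroups generating `N`, such that commutators of
members, met with centralisers of cocyclic subgroups, fall into members, and each member acts as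
`c`-Engel on the elements of `N` fixed by a cocyclic subgroup.
`class_le`: if moreover `N` is nilpotent and some nonidentity `a ∈ A` has fixed points of derived
length `≤ f` on `N`, the class of `N` is bounded by `classBound`.
-/

set_option autoImplicit false

namespace Cfsg.Agent.CoprimeSpecial

open Subgroup LieGraded
open scoped commutatorElement

universe u

variable {Γ : Type u} [Group Γ]

/-- `B ≤ A` with cyclic quotient. -/
def IsCocyclic (A B : Subgroup Γ) : Prop := B ≤ A ∧ ∃ a ∈ A, B ⊔ zpowers a = A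

/-- The derived series of a subgroup. -/
def dS (X : Subgroup Γ) : ℕ → Subgroup Γ
  | 0 => X
  | n + 1 => ⁅dS X n, dS X n⁆

/-- A family of special subgroups. -/
structure Family (A N : Subgroup Γ) (c : ℕ) where
  mem : Finset (Subgroup Γ)
  le : ∀ S ∈ mem, S ≤ N
  inv : ∀ S ∈ mem, A ≤ normalizer (S : Set Γ)
  gen : N ≤ ⨆ S ∈ mem, S
  engel : ∀ S ∈ mem, ∀ B, IsCocyclic A B → ∀ u ∈ N ⊓ centralizer (B : Set Γ), ∀ l : List Γ,
    l.length = c → (∀ x ∈ l, x ∈ S) → l.foldr (fun x z => ⁅z, x⁆) u = 1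
  close : ∀ S ∈ mem, ∀ T ∈ mem, ∀ B, IsCocyclic A B →
    ∃ U ∈ mem, ⁅S, T⁆ ⊓ centralizer (B : Set Γ) ≤ U

/-- The bound on the nilpotency class. -/
def classBound (M c p f : ℕ) : ℕ := wordBound M c (soluBound p (wordBound M c f))

theorem wordBound_mono {M M' : ℕ} (h : M ≤ M') (c f : ℕ) : wordBound M c f ≤ wordBound M' c f := by
  induction f with
  | zero => exact le_rfl
  | succ f ih => exact Nat.mul_le_mul ih (by gcongr)

theorem wordBound_mono_right (M c : ℕ) {f f' : ℕ} (h : f ≤ f') :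
    wordBound M c f ≤ wordBound M c f' := by
  induction h with
  | refl => exact le_rfl
  | step _ ih => exact ih.trans (Nat.le_mul_of_pos_right _ (Nat.succ_pos _))

theorem soluStep_mono {m m' : ℕ} (h : m ≤ m') (k : ℕ) : soluStep m k ≤ soluStep m' k := by
  induction k with
  | zero => exact le_rfl
  | succ k ih => exact Nat.add_le_add (Nat.mul_le_mul h (by omega)) ih

theorem classBound_mono {M M' : ℕ} (h : M ≤ M') (c p f : ℕ) :
    classBound M c p f ≤ classBound M' c p f :=
  (wordBound_mono h c _).trans (wordBound_mono_right M' c (soluStep_mono (wordBound_mono h c f) p))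

section Ring

variable {N : Subgroup Γ} [hN : N.Normal] {m : ℕ}

/-- Right multiplication in the Lie ring. -/
def ad (G : Type u) [Group G] (m : ℕ) : Ring G m →+ AddMonoid.End (Ring G m) :=
  (bracket G m).flip

theorem ad_apply {G : Type u} [Group G] {m : ℕ} (x y : Ring G m) : ad G m x y = bracket G m y x :=
  rfl

theorem ad_comm {G : Type u} [Group G] {m : ℕ} (x y : Ring G m) :
    ad G m x * ad G m y - ad G m y * ad G m x = ad G m (bracket G m y x) := by
  ext z : 1
  show bracket G m (bracket G m z y) x - bracket G m (bracket G m z x) y =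
    bracket G m z (bracket G m y x)
  rw [bracket_jacobi z y x]
  abel

/-- The action of an ambient element. -/
def act (N : Subgroup Γ) [N.Normal] (m : ℕ) (a : Γ) : Ring ↥N m →+ Ring ↥N m :=
  ringMap (MulAut.conjNormal a) m

/-- `U` is invariant. -/
def IsInv (A : Subgroup Γ) (U : AddSubgroup (Ring ↥N m)) : Prop :=
  ∀ a ∈ A, ∀ f ∈ U, act N m a f ∈ U

/-- The elements of `γ_k` with class in `U`. -/
def genPre (U : AddSubgroup (Ring ↥N m)) (k : ℕ) : Subgroup N where
  carrier := {z | ∃ hz : z ∈ gam ↥N k, gen m k z hz ∈ U}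
  one_mem' := ⟨one_mem _, by rw [gen_zero (one_mem _)]; exact zero_mem _⟩
  mul_mem' := fun ⟨ha, ha'⟩ ⟨hb, hb'⟩ => ⟨mul_mem ha hb, by rw [gen_mul ha hb]; exact add_mem ha' hb'⟩
  inv_mem' := fun ⟨ha, ha'⟩ => ⟨inv_mem ha, by rw [gen_inv ha]; exact neg_mem ha'⟩

variable {A : Subgroup Γ} {c : ℕ}

/-- The classes of the members of one subgroup. -/
def pieceGen (N : Subgroup Γ) (m : ℕ) (S : Subgroup Γ) : Set (Ring ↥N m) :=
  {f | ∃ k x, ∃ hx : x ∈ gam ↥N k, (x : Γ) ∈ S ∧ gen m k x hx = f}

/-- The classes of all members. -/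
def gens (F : Family A N c) (m : ℕ) : Set (Ring ↥N m) :=
  {f | ∃ S ∈ F.mem, f ∈ pieceGen N m S}

theorem act_mem_closure {U : AddSubgroup (Ring ↥N m)} {s : Set (Ring ↥N m)} {a : Γ}
    (h : ∀ f ∈ s, act N m a f ∈ U) {f : Ring ↥N m} (hf : f ∈ AddSubgroup.closure s) :
    act N m a f ∈ U :=
  (AddSubgroup.closure_le (K := U.comap (act N m a))).2 h hf

theorem map_normalizer {W : Subgroup N} (hW : ∀ a ∈ A, ∀ z ∈ W, MulAut.conjNormal a z ∈ W) :
    A ≤ normalizer ((W.map N.subtype : Subgroup Γ) : Set Γ) := by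
  have key : ∀ a ∈ A, ∀ z ∈ W.map N.subtype, a * z * a⁻¹ ∈ W.map N.subtype := by
    rintro a ha _ ⟨z, hz, rfl⟩
    exact ⟨_, hW a ha z hz, MulAut.conjNormal_apply a z⟩
  intro a ha
  rw [mem_normalizer_iff]
  refine fun z => ⟨key a ha z, fun h => ?_⟩
  have := key a⁻¹ (A.inv_mem ha) _ h
  simpa [mul_assoc] using this

theorem le_of_fixed [Finite Γ] [IsMulCommutative A] (hcop : (Nat.card A).Coprime (Nat.card N))
    {W T : Subgroup N} (hW : ∀ a ∈ A, ∀ z ∈ W, MulAut.conjNormal a z ∈ W)
    (h : ∀ z ∈ W, ∀ B, IsCocyclic A B → (z : Γ) ∈ centralizer (B : Set Γ) → z ∈ T) : W ≤ T := by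
  refine (map_subtype_le_map_subtype).1 (Coprime.le_of_forall_cyclic_quotient
    (map_normalizer hW) (hcop.coprime_dvd_right (card_dvd_of_le (map_subtype_le W))) ?_)
  rintro B hB hc _ ⟨⟨z, hz, rfl⟩, hzB⟩
  exact ⟨z, h z hz B ⟨hB, hc⟩ hzB, rfl⟩

theorem genPre_inv {U : AddSubgroup (Ring ↥N m)} (hU : IsInv A U) (k : ℕ) :
    ∀ a ∈ A, ∀ z ∈ genPre U k, MulAut.conjNormal a z ∈ genPre U k := by
  rintro a ha z ⟨hz, hzU⟩
  refine ⟨gam_map_mem _ hz, ?_⟩
  rw [← ringMap_gen _ hz]
  exact hU a ha _ hzU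

/-- A class in an invariant `U` of an element of `[S, T]` is a sum of member classes in `U`. -/
theorem close_span [Finite Γ] [IsMulCommutative A] (hcop : (Nat.card A).Coprime (Nat.card N))
    (F : Family A N c) {U : AddSubgroup (Ring ↥N m)} (hU : IsInv A U) {S T : Subgroup Γ}
    (hS : S ∈ F.mem) (hT : T ∈ F.mem) {k : ℕ} {z : N} (hz : z ∈ gam ↥N k)
    (hzST : (z : Γ) ∈ ⁅S, T⁆) (hzU : gen m k z hz ∈ U) :
    gen m k z hz ∈ AddSubgroup.closure {f | f ∈ gens F m ∧ f ∈ U} := by
  have hn : A ≤ normalizer ((⁅S, T⁆ : Subgroup Γ) : Set Γ) := by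
    intro a ha
    refine Coprime.mem_normalizer_of_conj_smul_eq ?_
    show Subgroup.map (MulAut.conj a).toMonoidHom ⁅S, T⁆ = _
    rw [Subgroup.map_commutator]
    exact congrArg₂ (fun X Y : Subgroup Γ => ⁅X, Y⁆) (Coprime.conj_smul_eq_self_of_mem (F.inv S hS ha))
      (Coprime.conj_smul_eq_self_of_mem (F.inv T hT ha))
  have hle : genPre U k ⊓ (⁅S, T⁆ : Subgroup Γ).subgroupOf N ≤
      genPre (AddSubgroup.closure {f | f ∈ gens F m ∧ f ∈ U}) k := by
    refine le_of_fixed hcop (fun a ha w hw => ⟨genPre_inv hU k a ha w hw.1, ?_⟩) ?_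
    · show (MulAut.conjNormal a w : Γ) ∈ ⁅S, T⁆
      rw [MulAut.conjNormal_apply]
      exact (mem_normalizer_iff.1 (hn ha) _).1 hw.2
    · rintro w ⟨⟨hw, hwU⟩, hwST⟩ B hB hwB
      obtain ⟨V, hV, hle⟩ := F.close S hS T hT B hB
      exact ⟨hw, AddSubgroup.subset_closure ⟨⟨V, hV, k, w, hw, hle ⟨hwST, hwB⟩, rfl⟩, hwU⟩⟩
  obtain ⟨_, h⟩ := hle ⟨⟨hz, hzU⟩, hzST⟩
  exact h

/-- The derived series of a subset of the ring. -/
def derK (K : AddSubgroup (Ring ↥N m)) : ℕ → AddSubgroup (Ring ↥N m)
  | 0 => K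
  | n + 1 => AddSubgroup.closure {z | ∃ x ∈ derK K n, ∃ y ∈ derK K n, bracket ↥N m x y = z}

/-- An additive subgroup spanned by member classes. -/
def IsSpanned (F : Family A N c) (U : AddSubgroup (Ring ↥N m)) : Prop :=
  U ≤ AddSubgroup.closure {f | f ∈ gens F m ∧ f ∈ U}

theorem derK_spanned [Finite Γ] [IsMulCommutative A] (hcop : (Nat.card A).Coprime (Nat.card N))
    (F : Family A N c) {K : AddSubgroup (Ring ↥N m)} (hK : IsInv A K) (hKs : IsSpanned F K) (n : ℕ) :
    IsInv A (derK K n) ∧ IsSpanned F (derK K n) := by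
  induction n with
  | zero => exact ⟨hK, hKs⟩
  | succ n ih =>
    have hinv : IsInv A (derK K (n + 1)) := fun a ha f hf =>
      act_mem_closure (by
        rintro _ ⟨x, hx, y, hy, rfl⟩
        rw [act, ringMap_bracket]
        exact AddSubgroup.subset_closure ⟨_, ih.1 a ha x hx, _, ih.1 a ha y hy, rfl⟩) hf
    refine ⟨hinv, (AddSubgroup.closure_le _).2 ?_⟩
    rintro _ ⟨x, hx, y, hy, rfl⟩
    have key : bracket ↥N m x y ∈
        AddSubgroup.closure {f | f ∈ gens F m ∧ f ∈ derK K (n + 1)} := by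
      have hx' := ih.2 hx
      clear hx
      induction hx' using AddSubgroup.closure_induction with
      | zero => simp
      | add u v _ _ hu hv => rw [map_add, AddMonoidHom.add_apply]; exact add_mem hu hv
      | neg u _ hu => rw [map_neg, AddMonoidHom.neg_apply]; exact neg_mem hu
      | mem u hu =>
        have hy' := ih.2 hy
        clear hy
        induction hy' using AddSubgroup.closure_induction with
        | zero => simp
        | add v w _ _ hv hw => rw [map_add]; exact add_mem hv hw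
        | neg v _ hv => rw [map_neg]; exact neg_mem hv
        | mem v hv =>
          obtain ⟨⟨S, hS, k, x', hx', hxS, rfl⟩, hxK⟩ := hu
          obtain ⟨⟨T, hT, l, y', hy', hyT, rfl⟩, hyK⟩ := hv
          have hmem : bracket ↥N m (gen m k x' hx') (gen m l y' hy') ∈ derK K (n + 1) :=
            AddSubgroup.subset_closure ⟨_, hxK, _, hyK, rfl⟩
          rw [bracket_gen hx' hy'] at hmem ⊢
          exact close_span hcop F hinv hS hT _ (commutator_mem_commutator hxS hyT) hmem
    exact key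

theorem top_spanned [Finite Γ] [IsMulCommutative A] (hcop : (Nat.card A).Coprime (Nat.card N))
    (F : Family A N c) : IsSpanned F (⊤ : AddSubgroup (Ring ↥N m)) := by
  set Z := AddSubgroup.closure {f | f ∈ gens F m ∧ f ∈ (⊤ : AddSubgroup (Ring ↥N m))}
  have hgen : ∀ k (x : N) (hx : x ∈ gam ↥N k), gen m k x hx ∈ Z := by
    intro k
    induction k with
    | zero =>
      intro x _
      have hle : N ≤ (genPre Z 0).map N.subtype := by
        refine F.gen.trans (iSup₂_le fun S hS y hy => ⟨⟨y, F.le S hS hy⟩, ⟨mem_top _, ?_⟩, rfl⟩)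
        exact AddSubgroup.subset_closure ⟨⟨S, hS, 0, ⟨y, F.le S hS hy⟩, mem_top _, hy, rfl⟩, trivial⟩
      obtain ⟨w, ⟨hw, hwZ⟩, e⟩ := hle x.2
      exact gen_congr rfl (Subtype.ext e) hw _ ▸ hwZ
    | succ k ih =>
      intro x hx
      induction hx using Subgroup.closure_induction with
      | one => rw [gen_zero (one_mem _)]; exact zero_mem _
      | mul a b ha hb h1 h2 => rw [gen_mul ha hb]; exact add_mem h1 h2
      | inv a ha h1 => rw [gen_inv ha]; exact neg_mem h1
      | mem z hz =>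
        obtain ⟨a, ha, b, -, rfl⟩ := hz
        have hb : b ∈ gam ↥N 0 := mem_top b
        have key : bracket ↥N m (gen m k a ha) (gen m 0 b hb) ∈ Z := by
          have hb0 : gen m 0 b hb ∈ Z := by
            have hle : N ≤ (genPre Z 0).map N.subtype := by
              refine F.gen.trans (iSup₂_le fun S hS y hy => ⟨⟨y, F.le S hS hy⟩, ⟨mem_top _, ?_⟩, rfl⟩)
              exact AddSubgroup.subset_closure ⟨⟨S, hS, 0, ⟨y, F.le S hS hy⟩, mem_top _, hy, rfl⟩, trivial⟩
            obtain ⟨w, ⟨hw, hwZ⟩, e⟩ := hle b.2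
            exact gen_congr rfl (Subtype.ext e) hw _ ▸ hwZ
          generalize gen m 0 b hb = v at hb0 ⊢
          have ha0 := ih a ha
          generalize gen m k a ha = u at ha0 ⊢
          induction ha0 using AddSubgroup.closure_induction with
          | zero => simp
          | add p q _ _ hp hq => rw [map_add, AddMonoidHom.add_apply]; exact add_mem hp hq
          | neg p _ hp => rw [map_neg, AddMonoidHom.neg_apply]; exact neg_mem hp
          | mem p hp =>
            induction hb0 using AddSubgroup.closure_induction with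
            | zero => simp
            | add q r _ _ hq hr => rw [map_add]; exact add_mem hq hr
            | neg q _ hq => rw [map_neg]; exact neg_mem hq
            | mem q hq =>
              obtain ⟨⟨S, hS, k', x', hx', hxS, rfl⟩, -⟩ := hp
              obtain ⟨⟨T, hT, l, y', hy', hyT, rfl⟩, -⟩ := hq
              rw [bracket_gen hx' hy']
              exact close_span hcop F (U := ⊤) (fun _ _ _ _ => trivial) hS hT _
                (commutator_mem_commutator hxS hyT) trivial
        rw [bracket_gen ha hb] at key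
        exact key
  intro f _
  induction f using ring_induction with
  | h0 => exact zero_mem _
  | hadd f g hf hg => exact add_mem (hf trivial) (hg trivial)
  | hgen k x hx => exact hgen k x hx

theorem word_gen {G : Type u} [Group G] {m : ℕ} {Q : G → Prop} :
    ∀ l : List (AddMonoid.End (Ring G m)),
      (∀ e ∈ l, ∃ k x, ∃ hx : x ∈ gam G k, Q x ∧ ad G m (gen m k x hx) = e) →
      ∃ xs : List G, xs.length = l.length ∧ (∀ x ∈ xs, Q x) ∧ ∀ k u (hu : u ∈ gam G k),
        ∃ k', ∃ h : xs.foldr (fun x z => ⁅z, x⁆) u ∈ gam G k',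
          l.prod (gen m k u hu) = gen m k' (xs.foldr (fun x z => ⁅z, x⁆) u) h := by
  intro l
  induction l with
  | nil => exact fun _ => ⟨[], rfl, by simp, fun k u hu => ⟨k, hu, rfl⟩⟩
  | cons e l ih =>
    intro h
    obtain ⟨xs, hlen, hQ, hxs⟩ := ih fun e' he' => h e' (List.mem_cons_of_mem _ he')
    obtain ⟨k₀, x₀, hx₀, hQ₀, rfl⟩ := h e (List.mem_cons_self ..)
    refine ⟨x₀ :: xs, by simp [hlen], List.forall_mem_cons.2 ⟨hQ₀, hQ⟩, fun k u hu => ?_⟩
    obtain ⟨k', hk', e'⟩ := hxs k u hu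
    refine ⟨k' + k₀ + 1, comm_mem_gam G rfl hk' hx₀, ?_⟩
    rw [List.prod_cons, AddMonoid.End.coe_mul, Function.comp_apply, e', ad_apply, bracket_gen hk' hx₀]
    rfl

theorem piece_prod_eq_zero [Finite Γ] [IsMulCommutative A] (hcop : (Nat.card A).Coprime (Nat.card N))
    (F : Family A N c) {S : Subgroup Γ} (hS : S ∈ F.mem) (l : List (AddMonoid.End (Ring ↥N m)))
    (hl : l.length = c)
    (hlS : ∀ e ∈ l, e ∈ (AddSubgroup.closure (pieceGen N m S)).map (ad ↥N m)) : l.prod = 0 := by
  have hspan : (AddSubgroup.closure (pieceGen N m S)).map (ad ↥N m) ≤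
      AddSubgroup.closure (ad ↥N m '' pieceGen N m S) := (AddMonoidHom.map_closure _ _).le
  rw [← AddSubgroup.mem_bot, ← one_mul l.prod]
  refine prod_mem_of_span hspan c 1 (fun l hl hlW => ?_) l hl hlS
  rw [one_mul, AddSubgroup.mem_bot]
  obtain ⟨xs, hlen, hxsS, hxs⟩ := word_gen (Q := fun x : N => (x : Γ) ∈ S) l fun e he => by
    obtain ⟨f, ⟨k, x, hx, hxS, rfl⟩, rfl⟩ := hlW e he
    exact ⟨k, x, hx, hxS, rfl⟩
  let Z : AddSubgroup (Ring ↥N m) := (l.prod : Ring ↥N m →+ Ring ↥N m).ker
  ext f : 1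
  show l.prod f = 0
  induction f using ring_induction with
  | h0 => exact map_zero _
  | hadd f g hf hg => rw [map_add, hf, hg, add_zero]
  | hgen k u hu =>
    have hle : gam ↥N k ≤ genPre Z k := by
      refine le_of_fixed hcop (fun a _ z hz => gam_map_mem _ hz) fun z hz B hB hzB => ⟨hz, ?_⟩
      obtain ⟨k', hk', e⟩ := hxs k z hz
      show l.prod _ = 0
      rw [e]
      have h1 : xs.foldr (fun x z => ⁅z, x⁆) z = 1 := by
        have hcoe : ∀ ys : List N, ((ys.foldr (fun x z => ⁅z, x⁆) z : N) : Γ) =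
            (ys.map Subtype.val).foldr (fun x z => ⁅z, x⁆) (z : Γ) := by
          intro ys
          induction ys with
          | nil => rfl
          | cons y ys ih =>
            rw [List.map_cons, List.foldr_cons, List.foldr_cons, ← ih]
            exact map_commutatorElement N.subtype _ y
        refine Subtype.ext ?_
        rw [hcoe, F.engel S hS B hB z ⟨z.2, hzB⟩ _ (by rw [List.length_map, hlen, hl]) ?_]
        · rfl
        · intro x hx
          obtain ⟨y, hy, rfl⟩ := List.mem_map.1 hx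
          exact hxsS y hy
      exact (gen_congr rfl h1 hk' (one_mem _)).trans (gen_zero (one_mem _))
    obtain ⟨_, h⟩ := hle hu
    exact h

/-- Operators from a soluble spanned invariant subgroup multiply to zero. -/
theorem word_eq_zero [Finite Γ] [IsMulCommutative A] (hcop : (Nat.card A).Coprime (Nat.card N))
    (F : Family A N c) {K : AddSubgroup (Ring ↥N m)} (hK : IsInv A K) (hKs : IsSpanned F K)
    (hclosed : ∀ x ∈ K, ∀ y ∈ K, bracket ↥N m x y ∈ K) {f : ℕ} (hf : derK K f = ⊥)
    (l : List (AddMonoid.End (Ring ↥N m))) (hl : l.length = wordBound F.mem.card c f)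
    (hlK : ∀ e ∈ l, e ∈ K.map (ad ↥N m)) : l.prod = 0 := by
  have hanti : ∀ n, derK K (n + 1) ≤ derK K n := by
    intro n
    induction n with
    | zero =>
      refine (AddSubgroup.closure_le _).2 ?_
      rintro _ ⟨x, hx, y, hy, rfl⟩
      exact hclosed x hx y hy
    | succ n ih =>
      refine AddSubgroup.closure_mono ?_
      rintro z ⟨x, hx, y, hy, e⟩
      exact ⟨x, ih hx, y, ih hy, e⟩
  refine prod_eq_zero (ι := F.mem) (fun i => (AddSubgroup.closure (pieceGen N m i.1)).map (ad ↥N m))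
    (fun i l hl hlS => piece_prod_eq_zero hcop F i.2 l hl hlS) f (fun n => (derK K n).map (ad ↥N m))
    (fun n => AddSubgroup.map_mono (hanti n)) (fun n => ?_) (fun n => ?_) ?_ l
    (by rwa [Fintype.card_coe]) hlK
  · rintro _ ⟨x, hx, rfl⟩ _ ⟨y, hy, rfl⟩
    exact ⟨_, AddSubgroup.subset_closure ⟨y, hy, x, hx, rfl⟩, (ad_comm x y).symm⟩
  · refine (AddSubgroup.map_mono (derK_spanned hcop F hK hKs n).2).trans ?_
    rw [AddMonoidHom.map_closure]
    refine AddSubgroup.closure_mono ?_
    rintro _ ⟨g, ⟨⟨S, hS, hg⟩, hgK⟩, rfl⟩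
    exact ⟨⟨g, hgK, rfl⟩, ⟨S, hS⟩, g, AddSubgroup.subset_closure hg, rfl⟩
  · rw [hf, AddSubgroup.map_bot]

end Ring

end Cfsg.Agent.CoprimeSpecial
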