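import Cfsg.Agent.Lib.CoprimeSpecial.Class
import Cfsg.Agent.Lib.CoprimeSpecial.Nilpotent
import Cfsg.Agent.Lib.SSFT.Main
import Cfsg.Agent.Lib.Coprime.Action

/-!
# Special subgroups and the class of terms of the derived and lower central series

`class_bound`: for an elementary abelian `p`-group `A` of order `p ^ k` acting coprimely on `G`, if
the `n`-th term of one of the two series of every `C_G(a)`, `a ≠ 1`, has class `≤ c`, so does that
of `G` with class bounded in terms of `p`, `k`, `c`, `n`, provided `w n + 2 ≤ k`.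
-/

set_option autoImplicit false

namespace Cfsg.Agent.CoprimeSpecial

open Subgroup LieGraded
open scoped commutatorElement

universe u

variable {Γ : Type u} [Group Γ]

/-- Commutators of generated subgroups. -/
theorem commutator_iSup_le {s t : Set (Subgroup Γ)} {M : Subgroup Γ}
    (hs : ∀ S ∈ s, S ≤ normalizer (M : Set Γ)) (ht : ∀ T ∈ t, T ≤ normalizer (M : Set Γ))
    (h : ∀ S ∈ s, ∀ T ∈ t, ⁅S, T⁆ ≤ M) : ⁅⨆ S ∈ s, S, ⨆ T ∈ t, T⁆ ≤ M := by
  have key : ∀ (r : Set (Subgroup Γ)) (z : Γ), (∀ S ∈ r, S ≤ normalizer (M : Set Γ)) →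
      (∀ S ∈ r, ∀ x ∈ S, ⁅x, z⁆ ∈ M) → ∀ x ∈ ⨆ S ∈ r, S, ⁅x, z⁆ ∈ M := by
    intro r z hr hrz
    let H : Subgroup Γ :=
      { carrier := {x | x ∈ normalizer (M : Set Γ) ∧ ⁅x, z⁆ ∈ M}
        one_mem' := ⟨one_mem _, by rw [commutatorElement_one_left]; exact M.one_mem⟩
        mul_mem' := fun {x y} hx hy => ⟨mul_mem hx.1 hy.1, by
          rw [commutatorElement_mul_left_eq_conj_mul]
          exact M.mul_mem ((mem_normalizer_iff.1 hx.1 _).1 hy.2) hx.2⟩
        inv_mem' := fun {x} hx => ⟨inv_mem hx.1, by
          have h1 := (mem_normalizer_iff.1 (inv_mem hx.1) _).1 (M.inv_mem hx.2)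
          rwa [show x⁻¹ * ⁅x, z⁆⁻¹ * x⁻¹⁻¹ = ⁅x⁻¹, z⁆ by
            simp only [commutatorElement_def]; group] at h1⟩ }
    exact fun x hx => ((iSup₂_le fun S hS y hy => ⟨hr S hS hy, hrz S hS y hy⟩ :
      (⨆ S ∈ r, S) ≤ H) hx).2
  refine commutator_le.2 fun x hx y hy => key s y hs (fun S hS x hx => ?_) x hx
  rw [← inv_mem_iff, commutatorElement_inv]
  refine key t x ht (fun T hT y hy => ?_) y hy
  rw [← inv_mem_iff, commutatorElement_inv]
  exact h S hS T hT (commutator_mem_commutator hx hy)

theorem conj_smul_commutator {g : Γ} {S T : Subgroup Γ} (hS : g ∈ normalizer (S : Set Γ))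
    (hT : g ∈ normalizer (T : Set Γ)) : g ∈ normalizer ((⁅S, T⁆ : Subgroup Γ) : Set Γ) := by
  refine Coprime.mem_normalizer_of_conj_smul_eq ?_
  show Subgroup.map (MulAut.conj g).toMonoidHom ⁅S, T⁆ = _
  rw [Subgroup.map_commutator]
  exact congrArg₂ (fun X Y : Subgroup Γ => ⁅X, Y⁆) (Coprime.conj_smul_eq_self_of_mem hS)
    (Coprime.conj_smul_eq_self_of_mem hT)

/-- The derived (`der = true`) or lower central series. -/
def ser (der : Bool) (X : Subgroup Γ) : ℕ → Subgroup Γ
  | 0 => X
  | n + 1 => ⁅ser der X n, bif der then ser der X n else X⁆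

theorem ser_true (X : Subgroup Γ) (n : ℕ) : ser true X n = dS X n := by
  induction n with
  | zero => rfl
  | succ n ih => rw [ser, dS, ih]; rfl

theorem ser_false (X : Subgroup Γ) (n : ℕ) : ser false X n = X.lowerCentralSeries n := by
  induction n with
  | zero => rfl
  | succ n ih => rw [ser, Subgroup.lowerCentralSeries_succ, ih]; rfl

theorem normalizer_le_ser (der : Bool) (X : Subgroup Γ) (n : ℕ) :
    normalizer (X : Set Γ) ≤ normalizer (ser der X n : Set Γ) := by
  induction n with
  | zero => exact le_rfl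
  | succ n ih =>
    intro g hg
    refine conj_smul_commutator (ih hg) ?_
    cases der
    · exact hg
    · exact ih hg

theorem ser_le (der : Bool) (X : Subgroup Γ) (n : ℕ) : ser der X n ≤ X := by
  induction n with
  | zero => exact le_rfl
  | succ n ih =>
    refine (commutator_mono ih (?_ : (bif der then ser der X n else X) ≤ X)).trans
      (le_normalizer_iff_commutator_le_left.1 le_normalizer)
    cases der
    · exact le_rfl
    · exact ih

theorem ser_mono (der : Bool) {X Y : Subgroup Γ} (h : X ≤ Y) (n : ℕ) :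
    ser der X n ≤ ser der Y n := by
  induction n with
  | zero => exact h
  | succ n ih =>
    refine commutator_mono ih ?_
    cases der
    · exact h
    · exact ih

theorem dS_le_ser (der : Bool) (X : Subgroup Γ) (n : ℕ) : dS X n ≤ ser der X n := by
  induction n with
  | zero => exact le_rfl
  | succ n ih =>
    refine commutator_mono ih ?_
    cases der
    · exact ih.trans (ser_le _ _ _)
    · exact ih

theorem dS_mono {X Y : Subgroup Γ} (h : X ≤ Y) (n : ℕ) : dS X n ≤ dS Y n := by
  rw [← ser_true, ← ser_true]; exact ser_mono true h n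

theorem dS_add (X : Subgroup Γ) (m n : ℕ) : dS X (m + n) = dS (dS X m) n := by
  induction n with
  | zero => rfl
  | succ n ih => rw [← Nat.add_assoc, dS, dS, ih]

/-- The cocyclic subgroups of `A`. -/
noncomputable def cocyclics [Finite Γ] (A : Subgroup Γ) : Finset (Subgroup Γ) :=
  (Set.toFinite {B : Subgroup Γ | IsCocyclic A B}).toFinset

theorem mem_cocyclics [Finite Γ] {A B : Subgroup Γ} : B ∈ cocyclics A ↔ IsCocyclic A B :=
  Set.Finite.mem_toFinset _

theorem card_cocyclics [Finite Γ] (A : Subgroup Γ) : (cocyclics A).card ≤ 2 ^ Nat.card A := by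
  classical
  rw [cocyclics, ← Set.ncard_eq_toFinset_card, ← Nat.card_coe_set_eq]
  have := Fintype.ofFinite A
  refine (Nat.card_le_card_of_injective
    (fun B : {B : Subgroup Γ | IsCocyclic A B} => ({a : A | (a : Γ) ∈ B.1} : Set A)) ?_).trans ?_
  · rintro ⟨B, hB⟩ ⟨B', hB'⟩ h
    refine Subtype.ext (SetLike.ext fun x => ⟨fun hx => ?_, fun hx => ?_⟩)
    · exact (Set.ext_iff.1 h ⟨x, hB.1 hx⟩).1 hx
    · exact (Set.ext_iff.1 h ⟨x, hB'.1 hx⟩).2 hx
  · rw [Nat.card_eq_fintype_card, Fintype.card_set, Nat.card_eq_fintype_card]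

open scoped Classical in
/-- The special subgroups. -/
noncomputable def special [Finite Γ] (der : Bool) (A G : Subgroup Γ) : ℕ → Finset (Subgroup Γ)
  | 0 => (cocyclics A).image fun B : Subgroup Γ => G ⊓ centralizer (B : Set Γ)
  | n + 1 => (special der A G n ×ˢ (bif der then special der A G n else
      (cocyclics A).image fun B : Subgroup Γ => G ⊓ centralizer (B : Set Γ)) ×ˢ cocyclics A).image
        fun x => ⁅x.1, x.2.1⁆ ⊓ centralizer (x.2.2 : Set Γ)

/-- The bound on the number of special subgroups. -/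
def specialCount (der : Bool) (q : ℕ) : ℕ → ℕ
  | 0 => q
  | n + 1 => specialCount der q n * ((bif der then specialCount der q n else q) * q)

/-- The exponent of the index of the centralised subgroup. -/
def weight : Bool → ℕ → ℕ
  | true, n => 2 ^ n
  | false, n => n + 1

variable [Finite Γ] {der : Bool} {A G : Subgroup Γ}

theorem mem_special_zero {U : Subgroup Γ} :
    U ∈ special der A G 0 ↔ ∃ B, IsCocyclic A B ∧ G ⊓ centralizer (B : Set Γ) = U := by
  classical
  simp [special, mem_cocyclics]

theorem mem_special_succ {n : ℕ} {U : Subgroup Γ} :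
    U ∈ special der A G (n + 1) ↔ ∃ S ∈ special der A G n,
      ∃ T ∈ special der A G (bif der then n else 0), ∃ B, IsCocyclic A B ∧
        ⁅S, T⁆ ⊓ centralizer (B : Set Γ) = U := by
  classical
  cases der <;> simp only [special, cond_true, cond_false, Finset.mem_image, Finset.mem_product,
    Prod.exists, mem_cocyclics] <;>
  exact ⟨fun ⟨S, T, B, ⟨hS, hT, hB⟩, e⟩ => ⟨S, hS, T, hT, B, hB, e⟩,
    fun ⟨S, hS, T, hT, B, hB, e⟩ => ⟨S, T, B, ⟨hS, hT, hB⟩, e⟩⟩

theorem card_special (n : ℕ) :
    (special der A G n).card ≤ specialCount der (2 ^ Nat.card A) n := by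
  classical
  induction n with
  | zero => exact Finset.card_image_le.trans (card_cocyclics A)
  | succ n ih =>
    refine Finset.card_image_le.trans ?_
    rw [Finset.card_product, Finset.card_product]
    refine Nat.mul_le_mul ih (Nat.mul_le_mul ?_ (card_cocyclics A))
    cases der
    · exact Finset.card_image_le.trans (card_cocyclics A)
    · exact ih

theorem special_le [G.Normal] : ∀ n, ∀ U ∈ special der A G n, U ≤ G := by
  intro n
  induction n with
  | zero => intro U hU; obtain ⟨B, -, rfl⟩ := mem_special_zero.1 hU; exact inf_le_left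
  | succ n ih =>
    intro U hU
    obtain ⟨S, hS, T, -, B, -, rfl⟩ := mem_special_succ.1 hU
    exact inf_le_left.trans ((commutator_mono (ih S hS) le_top).trans (commutator_le_left G ⊤))

theorem special_inv [G.Normal] [IsMulCommutative A] :
    ∀ n, ∀ U ∈ special der A G n, A ≤ normalizer (U : Set Γ) := by
  have hB : ∀ B, IsCocyclic A B → A ≤ normalizer ((centralizer (B : Set Γ) : Subgroup Γ) : Set Γ) := by
    intro B hB a ha
    refine le_normalizer (mem_centralizer_iff.2 fun b hb => ?_)
    exact congrArg Subtype.val (mul_comm' (⟨b, hB.1 hb⟩ : A) ⟨a, ha⟩)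
  intro n
  induction n using Nat.strong_induction_on with
  | _ n ih =>
    intro U hU
    cases n with
    | zero =>
      obtain ⟨B, hB', rfl⟩ := mem_special_zero.1 hU
      exact Coprime.le_normalizer_inf_of_le (normalizer_eq_top (H := G) ▸ le_top) (hB B hB')
    | succ n =>
      obtain ⟨S, hS, T, hT, B, hB', rfl⟩ := mem_special_succ.1 hU
      refine Coprime.le_normalizer_inf_of_le (fun a ha => conj_smul_commutator
        (ih n (Nat.lt_succ_self n) S hS ha) (ih _ ?_ T hT ha)) (hB B hB')
      cases der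
      · exact Nat.succ_pos n
      · exact Nat.lt_succ_self n

theorem relIndex_le_of_cocyclic {p : ℕ} [IsMulCommutative A] (hp : 0 < p) (hA : ∀ a ∈ A, a ^ p = 1)
    {B : Subgroup Γ} (hB : IsCocyclic A B) : B.relIndex A ≤ p := by
  obtain ⟨hBA, a, ha, e⟩ := hB
  let B' : Subgroup A := B.subgroupOf A
  let Z : Subgroup A := zpowers ⟨a, ha⟩
  have hsup : Z ⊔ B' = ⊤ := by
    refine map_injective A.subtype_injective ?_
    rw [Subgroup.map_sup, MonoidHom.map_zpowers, subgroupOf_map_subtype, ← MonoidHom.range_eq_map,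
      range_subtype, inf_eq_left.2 hBA, sup_comm]
    exact e
  show B'.index ≤ p
  rw [← relIndex_top_right, ← hsup, relIndex_sup_right]
  refine (Nat.le_of_dvd Nat.card_pos (relIndex_dvd_card _ _)).trans ?_
  rw [Nat.card_zpowers, ← orderOf_coe]
  exact orderOf_le_of_pow_eq_one hp (hA a ha)

/-- Each special subgroup centralises a large subgroup of `A`. -/
theorem special_centralizer {p : ℕ} [IsMulCommutative A] (hp : 0 < p) (hA : ∀ a ∈ A, a ^ p = 1) :
    ∀ n, ∀ U ∈ special der A G n, ∃ B ≤ A, B.relIndex A ≤ p ^ weight der n ∧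
      U ≤ ser der (G ⊓ centralizer (B : Set Γ)) n := by
  intro n
  induction n using Nat.strong_induction_on with
  | _ n ih =>
    intro U hU
    cases n with
    | zero =>
      obtain ⟨B, ⟨hBA, a, ha, e⟩, rfl⟩ := mem_special_zero.1 hU
      refine ⟨B, hBA, ?_, le_rfl⟩
      have hw : weight der 0 = 1 := by cases der <;> rfl
      rw [hw, pow_one]
      exact relIndex_le_of_cocyclic hp hA ⟨hBA, a, ha, e⟩
    | succ n =>
      obtain ⟨S, hS, T, hT, B, -, rfl⟩ := mem_special_succ.1 hU
      obtain ⟨B₁, hB₁, hi₁, hS'⟩ := ih n (Nat.lt_succ_self n) S hS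
      obtain ⟨B₂, hB₂, hi₂, hT'⟩ := ih (bif der then n else 0)
        (by cases der <;> simp) T hT
      refine ⟨B₁ ⊓ B₂, inf_le_left.trans hB₁, relIndex_inf_le.trans ?_, inf_le_left.trans ?_⟩
      · refine (Nat.mul_le_mul hi₁ hi₂).trans ?_
        rw [← pow_add]
        refine Nat.pow_le_pow_right hp (le_of_eq ?_)
        cases der
        · show n + 1 + (0 + 1) = n + 1 + 1; rfl
        · show 2 ^ n + 2 ^ n = 2 ^ (n + 1); omega
      · have h1 : ∀ B' : Subgroup Γ, B₁ ⊓ B₂ ≤ B' →
            G ⊓ centralizer (B' : Set Γ) ≤ G ⊓ centralizer ((B₁ ⊓ B₂ : Subgroup Γ) : Set Γ) :=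
          fun B' h => inf_le_inf_left G (centralizer_le h)
        refine commutator_mono (hS'.trans (ser_mono der (h1 B₁ inf_le_left) n)) (hT'.trans ?_)
        cases der
        · exact h1 B₂ inf_le_right
        · exact ser_mono true (h1 B₂ inf_le_right) n

/-- Each special subgroup lies in one of the previous degree. -/
theorem special_sub [G.Normal] : ∀ n, ∀ U ∈ special der A G (n + 1),
    ∃ V ∈ special der A G n, U ≤ V := by
  intro n
  induction n with
  | zero =>
    intro U hU
    obtain ⟨S, hS, T, -, B, hB, rfl⟩ := mem_special_succ.1 hU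
    exact ⟨_, mem_special_zero.2 ⟨B, hB, rfl⟩, inf_le_inf_right _
      ((commutator_mono (special_le 0 S hS) le_top).trans (commutator_le_left G ⊤))⟩
  | succ n ih =>
    intro U hU
    obtain ⟨S, hS, T, hT, B, hB, rfl⟩ := mem_special_succ.1 hU
    obtain ⟨S', hS', hSS'⟩ := ih S hS
    cases der with
    | false =>
      exact ⟨_, mem_special_succ.2 ⟨S', hS', T, hT, B, hB, rfl⟩,
        inf_le_inf_right _ (commutator_mono hSS' le_rfl)⟩
    | true =>
      obtain ⟨T', hT', hTT'⟩ := ih T hT
      exact ⟨_, mem_special_succ.2 ⟨S', hS', T', hT', B, hB, rfl⟩,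
        inf_le_inf_right _ (commutator_mono hSS' hTT')⟩

theorem special_base [G.Normal] : ∀ n, ∀ U ∈ special der A G n, ∃ V ∈ special der A G 0, U ≤ V := by
  intro n
  induction n with
  | zero => exact fun U hU => ⟨U, hU, le_rfl⟩
  | succ n ih =>
    intro U hU
    obtain ⟨V, hV, h⟩ := special_sub n U hU
    obtain ⟨W, hW, h'⟩ := ih V hV
    exact ⟨W, hW, h.trans h'⟩

theorem special_close [G.Normal] (n : ℕ) : ∀ S ∈ special der A G n, ∀ T ∈ special der A G n, ∀ B,
    IsCocyclic A B → ∃ U ∈ special der A G n, ⁅S, T⁆ ⊓ centralizer (B : Set Γ) ≤ U := by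
  intro S hS T hT B hB
  cases der with
  | true =>
    obtain ⟨U, hU, h⟩ := special_sub n _ (mem_special_succ.2 ⟨S, hS, T, hT, B, hB, rfl⟩)
    exact ⟨U, hU, h⟩
  | false =>
    obtain ⟨T', hT', hTT'⟩ := special_base n T hT
    obtain ⟨U, hU, h⟩ := special_sub n _ (mem_special_succ.2 ⟨S, hS, T', hT', B, hB, rfl⟩)
    exact ⟨U, hU, (inf_le_inf_right _ (commutator_mono le_rfl hTT')).trans h⟩

/-- The special subgroups of degree `n` generate the `n`-th term. -/
theorem ser_le_special [G.Normal] [IsMulCommutative A] (hcop : (Nat.card A).Coprime (Nat.card G))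
    (n : ℕ) : ser der G n ≤ ⨆ U ∈ special der A G n, U := by
  have hGn : A ≤ normalizer (G : Set Γ) := normalizer_eq_top (H := G) ▸ le_top
  induction n with
  | zero =>
    exact Coprime.le_of_forall_cyclic_quotient hGn hcop fun B hB hc =>
      le_iSup₂ (f := fun U (_ : U ∈ special der A G 0) => U) _ (mem_special_zero.2 ⟨B, ⟨hB, hc⟩, rfl⟩)
  | succ n ih =>
    have hright : (bif der then ser der G n else G) ≤
        ⨆ U ∈ special der A G (bif der then n else 0), U := by
      cases der
      · exact Coprime.le_of_forall_cyclic_quotient hGn hcop fun B hB hc =>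
          le_iSup₂ (f := fun U (_ : U ∈ special false A G 0) => U) _
            (mem_special_zero.2 ⟨B, ⟨hB, hc⟩, rfl⟩)
      · exact ih
    set M := ⨆ U ∈ special der A G (n + 1), U with hM
    have hpair : ∀ S ∈ special der A G n, ∀ T ∈ special der A G (bif der then n else 0),
        ⁅S, T⁆ ≤ M := by
      intro S hS T hT
      refine Coprime.le_of_forall_cyclic_quotient (fun a ha => conj_smul_commutator
        (special_inv n S hS ha) (special_inv _ T hT ha)) (hcop.coprime_dvd_right (card_dvd_of_le
          ((commutator_mono (special_le n S hS) le_top).trans (commutator_le_left G ⊤)))) ?_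
      exact fun B hB hc => le_iSup₂ (f := fun U (_ : U ∈ special der A G (n + 1)) => U) _
        (mem_special_succ.2 ⟨S, hS, T, hT, B, ⟨hB, hc⟩, rfl⟩)
    have hnorm : ∀ T ∈ special der A G (bif der then n else 0), T ≤ normalizer (M : Set Γ) := by
      intro T hT
      refine le_normalizer_iff_commutator_le_left.2 (commutator_le.2 fun x hx t ht => ?_)
      have h1 : ∀ V ∈ special der A G n, ∀ v ∈ V, ⁅v, t⁆ ∈ M := fun V hV v hv =>
        hpair V hV T hT (commutator_mem_commutator hv ht)
      have h2 : ∀ U ∈ special der A G (n + 1), ∀ y ∈ U, t * y * t⁻¹ ∈ M := by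
        intro U hU y hy
        obtain ⟨V, hV, hUV⟩ := special_sub n U hU
        have h3 := M.inv_mem (h1 V hV y (hUV hy))
        rw [commutatorElement_inv, commutatorElement_def] at h3
        have h4 := M.mul_mem h3 ((le_iSup₂ (f := fun U (_ : U ∈ special der A G (n + 1)) => U) U hU) hy)
        rwa [inv_mul_cancel_right] at h4
      let W : Subgroup Γ := M.comap (MulAut.conj t).toMonoidHom
      have h5 : M ≤ W := iSup₂_le fun U hU y hy => h2 U hU y hy
      have h6 : t * x⁻¹ * t⁻¹ ∈ M := h5 (M.inv_mem hx)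
      rw [commutatorElement_def, show x * t * x⁻¹ * t⁻¹ = x * (t * x⁻¹ * t⁻¹) by group]
      exact M.mul_mem hx h6
    refine (commutator_mono ih hright).trans (commutator_iSup_le ?_ hnorm hpair)
    cases der with
    | true => exact hnorm
    | false =>
      intro S hS
      refine (special_le n S hS).trans (Coprime.le_of_forall_cyclic_quotient hGn hcop fun B hB hc => ?_)
      exact hnorm _ (mem_special_zero.2 ⟨B, ⟨hB, hc⟩, rfl⟩)

theorem map_derivedSeries (X : Subgroup Γ) (n : ℕ) : (derivedSeries X n).map X.subtype = dS X n := by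
  induction n with
  | zero => rw [derivedSeries_zero, ← MonoidHom.range_eq_map, range_subtype]; rfl
  | succ n ih => rw [derivedSeries_succ, Subgroup.map_commutator, ih]; rfl

theorem foldr_mem_lowerCentralSeries {X C : Subgroup Γ} (hC : C ≤ normalizer (X : Set Γ)) {u : Γ}
    (hu : u ∈ C) : ∀ (l : List Γ) (j : ℕ), l.length = j + 1 → (∀ x ∈ l, x ∈ X) →
      l.foldr (fun x z => ⁅z, x⁆) u ∈ X.lowerCentralSeries j := by
  intro l
  induction l with
  | nil => intro j h; simp at h
  | cons x l ih =>
    intro j hj hl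
    have hx : x ∈ X := hl x (List.mem_cons_self ..)
    rw [List.foldr_cons]
    cases j with
    | zero =>
      rw [List.eq_nil_of_length_eq_zero (show l.length = 0 by simpa using hj), List.foldr_nil,
        Subgroup.lowerCentralSeries_zero, commutatorElement_def]
      exact X.mul_mem ((mem_normalizer_iff.1 (hC hu) x).1 hx) (X.inv_mem hx)
    | succ j =>
      exact commutator_mem_commutator
        (ih j (by simpa using hj) fun y hy => hl y (List.mem_cons_of_mem _ hy)) hx

/-- The bound on the class. -/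
def specialBound (der : Bool) (p k c n : ℕ) : ℕ :=
  classBound (specialCount der (2 ^ (p ^ k)) n) (c + 1) p (n + c)

/-- **The class of a term of the derived or lower central series.** -/
theorem class_bound (der : Bool) [G.Normal] {p k c n : ℕ} [hp : Fact p.Prime]
    (hG : (Nat.card G).Coprime p) (hA : IsElementaryAbelian p A) (hcard : Nat.card A = p ^ k)
    (hk : weight der n + 2 ≤ k)
    (h : ∀ a ∈ A, a ≠ 1 → (ser der (G ⊓ centralizer {a}) n).lowerCentralSeries c = ⊥) :
    (ser der G n).lowerCentralSeries (specialBound der p k c n) = ⊥ := by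
  classical
  have := hA.1
  have hGn : A ≤ normalizer (G : Set Γ) := normalizer_eq_top (H := G) ▸ le_top
  have hcop : (Nat.card A).Coprime (Nat.card G) := by rw [hcard]; exact hG.symm.pow_left k
  have hder : ∀ a ∈ A, a ≠ 1 → dS (G ⊓ centralizer {a}) (n + c) = ⊥ := by
    intro a ha ha1
    rw [dS_add, ← le_bot_iff, ← h a ha ha1]
    refine (dS_mono (dS_le_ser der _ n) c).trans ?_
    rw [← ser_false]
    exact dS_le_ser false _ c
  have hw : 1 ≤ weight der n := by
    cases der
    · exact Nat.le_add_left 1 n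
    · exact Nat.one_le_two_pow
  have hsolG : Group.IsSolvable G := SSFT.solvable_of_centralizers hA
    (by rw [hcard]; exact Nat.pow_le_pow_right hp.out.pos (by omega)) hG hGn fun a ha ha1 => by
      rw [Group.isSolvable_def]
      refine ⟨n + c, Subgroup.map_injective (Subgroup.subtype_injective _) ?_⟩
      rw [map_derivedSeries, hder a ha ha1, Subgroup.map_bot]
  set N := ser der G n with hN
  have hNG : N ≤ G := ser_le der G n
  have hNn : N.Normal := normalizer_eq_top_iff.1
    (eq_top_iff.2 ((normalizer_eq_top (H := G)).ge.trans (normalizer_le_ser der G n)))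
  have hcopN : (Nat.card A).Coprime (Nat.card N) := hcop.coprime_dvd_right (card_dvd_of_le hNG)
  have hsolN : Group.IsSolvable N :=
    Group.isSolvable_of_isSolvable_injective (f := Subgroup.inclusion hNG) (inclusion_injective hNG)
  have hSN : ∀ S ∈ special der A G n, S ≤ N := by
    intro S hS
    obtain ⟨B, -, -, hSB⟩ := special_centralizer hp.out.pos hA.2 n S hS
    exact hSB.trans (ser_mono der inf_le_left n)
  have hengel : ∀ S ∈ special der A G n, ∀ B, IsCocyclic A B → ∀ u ∈ N ⊓ centralizer (B : Set Γ),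
      ∀ l : List Γ, l.length = c + 1 → (∀ x ∈ l, x ∈ S) → l.foldr (fun x z => ⁅z, x⁆) u = 1 := by
    intro S hS B hB u hu l hl hlS
    obtain ⟨B', -, hi, hSB⟩ := special_centralizer hp.out.pos hA.2 n S hS
    obtain ⟨a, ⟨haB, haB'⟩, ha1⟩ : ∃ a ∈ B ⊓ B', a ≠ 1 := by
      by_contra! hall
      have h1 : (B ⊓ B').relIndex A ≤ p * p ^ weight der n := relIndex_inf_le.trans
        (Nat.mul_le_mul (relIndex_le_of_cocyclic hp.out.pos hA.2 hB) hi)
      rw [show B ⊓ B' = ⊥ from (Subgroup.eq_bot_iff_forall _).2 hall, relIndex_bot_left, hcard,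
        ← pow_succ', Nat.pow_le_pow_iff_right hp.out.one_lt] at h1
      omega
    have hC : ser der (G ⊓ centralizer (B' : Set Γ)) n ≤ ser der (G ⊓ centralizer {a}) n :=
      ser_mono der (inf_le_inf_left G (centralizer_le (Set.singleton_subset_iff.2 haB'))) n
    have := foldr_mem_lowerCentralSeries
      (X := ser der (G ⊓ centralizer {a}) n) (C := G ⊓ centralizer {a})
      (le_normalizer.trans (normalizer_le_ser der _ n))
      (show u ∈ G ⊓ centralizer {a} from
        ⟨hNG hu.1, centralizer_le (Set.singleton_subset_iff.2 haB) hu.2⟩)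
      l c hl fun x hx => hC (hSB (hlS x hx))
    rwa [h a (hB.1 haB) ha1, Subgroup.mem_bot] at this
  have hNnil : Group.IsNilpotent N := nilpotent_of_engel hcopN hsolN
    (special der A G n : Set (Subgroup Γ)) hSN (ser_le_special hcop n) (c + 1) hengel
  let F : Family A N (c + 1) :=
    { mem := special der A G n
      le := hSN
      inv := special_inv n
      gen := ser_le_special hcop n
      engel := hengel
      close := special_close n }
  obtain ⟨a, ha, ha1⟩ : ∃ a ∈ A, a ≠ 1 := by
    by_contra! hall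
    rw [(Subgroup.eq_bot_iff_forall _).2 hall, Subgroup.card_bot] at hcard
    exact (Nat.one_lt_pow (by omega) hp.out.one_lt).ne hcard
  have hcl := class_le hcopN F (hG.coprime_dvd_left (card_dvd_of_le hNG)) ha (hA.2 a ha) (f := n + c)
    (le_bot_iff.1 ((dS_mono (inf_le_inf_right _ hNG) _).trans (hder a ha ha1).le))
  have hle : classBound F.mem.card (c + 1) p (n + c) ≤ specialBound der p k c n :=
    classBound_mono ((card_special n).trans_eq (by rw [hcard])) _ _ _
  have hb : (⊤ : Subgroup N).lowerCentralSeries (specialBound der p k c n) = ⊥ :=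
    le_bot_iff.1 ((gam_antitone _ hle).trans hcl.le)
  rw [← top_subtype_lowerCentralSeries, hb, Subgroup.map_bot]

end Cfsg.Agent.CoprimeSpecial
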